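import Cfsg.Agent.Lib.M22Order33.Rows

/-!
The principal 2-block excludes the degrees 120, 55, 66, 66 in the block of an element of order
seven when the character of degree 120 vanishes at a 2-central involution.
-/

set_option autoImplicit false
set_option linter.unusedSectionVars false
set_option linter.style.haveILetI false

namespace Cfsg.Agent.Lib.M22Order33

open scoped ComplexConjugate
open Cfsg Cfsg.Agent.Lib Finset
open Cfsg.Agent.Lib.BrauerReynolds Cfsg.Agent.Lib.BrauerTuan Cfsg.Agent.Lib.DefectOne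
open Cfsg.Agent.Lib.SmallGroups.PrimeChar (xp)

universe u

variable {G : Type u} [Group G] [Fintype G]

open Classical in
/-- The sum over a family of `q`-regular elements of the weights in the principal `q`-block. -/
theorem principal_dvd_sum {q : ℕ} [hq : Fact q.Prime] {M : Ideal AlgInt} [M.IsPrime]
    (hM : IsPModular q M) {ι : Type*} (J : Finset ι) (x : ι → G)
    (hx : ∀ j ∈ J, ¬ q ∣ orderOf (x j)) (T : Finset (IrrCharacter G))
    (hT : ∀ j ∈ J, ∀ χ ∈ principalBlock M G, χ ∉ T → (χ : G → ℂ) (x j) = 0) {z : ℤ}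
    (hz : ∑ χ ∈ T.filter (· ∈ principalBlock M G), (∑ j ∈ J, (χ : G → ℂ) (x j)) * (degOf χ : ℂ) =
      (z : ℂ)) :
    ((q ^ (Nat.card G).factorization q : ℕ) : ℤ) ∣ z := by
  obtain ⟨S⟩ := (inferInstance : Nonempty (Sylow q G))
  haveI : Fintype (S : Subgroup G) := Fintype.ofFinite _
  choose m hm using fun χ : IrrCharacter G => Chars.isCharacter_classInner_nat
    (Chars.irr_isCharacter (Chars.trivialIrr (S : Subgroup G)))
    (Chars.isCharacter_comp (S : Subgroup G).subtype (Chars.irr_isCharacter χ))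
  let F : G → ℂ := fun h =>
    ∑ χ ∈ T.filter (· ∈ principalBlock M G), (∑ j ∈ J, (χ : G → ℂ) (x j)) * conj ((χ : G → ℂ) h)
  have hF0 : ∀ h : (S : Subgroup G), h ≠ 1 → F h = 0 := by
    intro h hne
    simp only [F, sum_mul]
    rw [sum_comm]
    refine sum_eq_zero fun j hj => principal_orth hM (hx j hj) T (hT j hj) ?_
    obtain ⟨k, hk⟩ := IsPGroup.iff_orderOf.mp S.2 h
    rw [Subgroup.orderOf_coe, hk]
    refine dvd_pow_self q fun h0 => hne ?_
    rw [h0, pow_zero, orderOf_eq_one_iff] at hk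
    exact hk
  have hF1 : F 1 = (Nat.card (S : Subgroup G) : ℂ) *
      ∑ χ ∈ T.filter (· ∈ principalBlock M G), (∑ j ∈ J, (χ : G → ℂ) (x j)) * (m χ : ℂ) := by
    have h1 : ∑ h : (S : Subgroup G), F h = F 1 := by
      rw [Finset.sum_eq_single (1 : (S : Subgroup G)) (fun b _ hb => hF0 b hb)
        (fun h => absurd (mem_univ _) h), OneMemClass.coe_one]
    rw [← h1, sum_comm, mul_sum]
    refine sum_congr rfl fun χ _ => ?_
    rw [← mul_sum, ← hm χ, classInner]
    simp only [Chars.trivialIrr_apply, one_mul, Subgroup.coe_subtype]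
    rw [mul_left_comm, mul_inv_cancel_left₀ (Nat.cast_ne_zero.mpr Nat.card_pos.ne')]
  have hval : F 1 = (z : ℂ) := by
    simp only [F, apply_one_eq_degOf, Complex.conj_natCast]
    exact hz
  rw [← S.card_eq_multiplicity]
  refine natCast_dvd_of_isIntegral_div Nat.card_pos.ne' ?_
  rw [← hval, hF1, mul_div_cancel_left₀ _ (Nat.cast_ne_zero.mpr Nat.card_pos.ne')]
  exact IsIntegral.sum _ fun χ _ =>
    (IsIntegral.sum _ fun j _ => Chars.irr_isIntegral χ _).mul isIntegral_algebraMap

variable [Fact (Nat.Prime 7)] {D : Setting 7 G}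

theorem not_badTwo [IsSimpleGroup G] (h : Nat.card G = 443520) (K : Blk D) (hV : D.S.V = ⊥)
    (he : D.e = 3) (Λ : Blk.Listing K) {t : G} (ht : orderOf t = 2) :
    Check.badTwo 7 (Nat.card (Subgroup.centralizer ({t} : Set G))) (Λ.row t) = false := by
  classical
  rw [← Bool.not_eq_true]
  intro hbad
  set C := Nat.card (Subgroup.centralizer ({t} : Set G)) with hC
  simp only [Check.badTwo, Bool.and_eq_true, decide_eq_true_eq, beq_iff_eq, List.isPerm_iff,
    List.contains_iff_mem, Blk.Listing.row, List.map_map, List.mem_map] at hbad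
  obtain ⟨⟨⟨⟨-, hC128⟩, hperm⟩, hθ66⟩, χ0, hχ0, hpr⟩ := hbad
  have hθ : degOf Λ.θ = 66 := hθ66
  simp only [pr, Prod.mk.injEq] at hpr
  obtain ⟨hd0, hv0⟩ := hpr
  have hA0 : χ0 ∈ K.A := Λ.mem_A hχ0
  -- the block of degree 55
  have hdeg : ∀ χ ∈ K.A, χ ≠ χ0 → degOf χ = 55 := by
    intro χ hχ hne
    have hcard : K.A.card = 2 := by have := K.cardA; omega
    have hA : K.A = {χ0, χ} := (eq_of_subset_of_card_le (by
      simp [insert_subset_iff, hA0, hχ]) (by rw [hcard, card_pair hne.symm])).symm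
    have hs : (Λ.L.map (fun c => degOf c)).sum = 175 := by
      have := hperm.sum_eq
      simpa [pr, Function.comp_def] using this
    rw [Λ.sum_map, hA, sum_pair hne.symm, hd0] at hs
    omega
  obtain ⟨M, hM⟩ := Glauberman.exists_isPModular Nat.prime_two
  haveI := Blocks.isPModular_isPrime hM
  haveI : Fact (Nat.Prime 2) := ⟨Nat.prime_two⟩
  -- the character of degree 120 is outside the principal block
  have hout : χ0 ∉ principalBlock M G := by
    intro hmem
    have h1 := hmem t
    have hz : centralChar (χ0 : G → ℂ) t = 0 := by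
      rw [centralChar, iv_spec χ0 ht, hv0, Int.cast_zero, mul_zero, zero_div]
    rw [hz, sub_zero, centralChar, mul_one, div_one,
      Blocks.memLocalIdeal_natCast_iff hM] at h1
    have h2 := (Subgroup.centralizer ({t} : Set G)).card_mul_index
    rw [h, ← hC] at h2
    obtain ⟨a, ha⟩ := Nat.dvd_of_mod_eq_zero hC128
    rw [ha, mul_assoc, show (443520 : ℕ) = 128 * 3465 by norm_num] at h2
    have h3 : (Subgroup.centralizer ({t} : Set G)).index ∣ 3465 :=
      Dvd.intro_left a (Nat.eq_of_mul_eq_mul_left (by norm_num) h2)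
    exact absurd (h1.trans h3) (by norm_num)
  -- the sum over the powers
  set J := (univ : Finset (ZMod 7)).erase 0 with hJ
  set T := insert (Chars.trivialIrr G) (K.A ∪ K.B) with hT
  set I := fun χ : IrrCharacter G => if χ ∈ principalBlock M G then (1 : ℤ) else 0 with hI
  have hsigns : K.ε = 1 := by
    rw [← K.eps_eq (by norm_num) Λ.θ_mem, hθ, he]; rfl
  set z : ℤ := 6 + ∑ χ ∈ K.A.erase χ0, I χ * (-330) + ∑ θ ∈ K.B, I θ * (-198) with hz
  have hdvd := principal_dvd_sum hM J (fun j => xp 7 D.S.x j)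
    (fun j hj => by rw [DefectOne.orderOf_xp D.S (ne_of_mem_erase hj)]; norm_num) T
    (fun j hj χ _ hχ => by
      rw [hT, mem_insert, not_or] at hχ
      exact K.vanish hV χ hχ.1 hχ.2 j (ne_of_mem_erase hj)) (z := z) (by
      rw [sum_filter, hT, sum_insert K.triv_notMem, if_pos trivial_mem_principal, sum_union K.disj,
        ← add_sum_erase _ _ hA0, if_neg hout, zero_add, hz]
      push_cast
      rw [← add_assoc]
      congr 1
      · congr 1
        · simp [Chars.trivialIrr_apply, degOf_trivial, hJ]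
        · refine sum_congr rfl fun χ hχ => ?_
          obtain ⟨hne, hχA⟩ := mem_erase.mp hχ
          have hd : degOf χ = 55 := hdeg χ hχA hne
          have hδ : K.δ χ = -1 := by rw [← K.sgn_eq (by norm_num) hχA, hd]; rfl
          rw [sum_congr rfl fun j hj => K.applyA χ hχA j (ne_of_mem_erase hj), hd, hδ]
          simp only [hI]
          split <;> simp [hJ] <;> norm_num
      · refine sum_congr rfl fun χ hχ => ?_
        rw [K.sumB χ hχ, K.deg_eq hχ Λ.θ_mem, hθ, hsigns, he]
        simp only [hI]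
        split <;> norm_num)
  rw [h, show ((2 : ℕ) ^ (443520 : ℕ).factorization 2) = 128 by
    rw [show (443520 : ℕ) = 2 ^ 7 * 3465 by norm_num,
      Nat.factorization_mul (by norm_num) (by norm_num), Nat.Prime.factorization_pow Nat.prime_two]
    simp [Nat.factorization_eq_zero_of_not_dvd (by norm_num : ¬ 2 ∣ 3465)]] at hdvd
  have hcA : (K.A.erase χ0).card = 1 := by rw [card_erase_of_mem hA0]; have := K.cardA; omega
  have hcB : K.B.card = 2 := by rw [K.cardB]; have := D.het; rw [he] at this; omega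
  have hIr : ∀ χ, 0 ≤ I χ ∧ I χ ≤ 1 := fun χ => by simp only [hI]; split <;> norm_num
  have ha0 : 0 ≤ ∑ χ ∈ K.A.erase χ0, I χ := sum_nonneg fun χ _ => (hIr χ).1
  have ha1 : ∑ χ ∈ K.A.erase χ0, I χ ≤ 1 := by
    refine (sum_le_card_nsmul _ _ 1 fun χ _ => (hIr χ).2).trans ?_
    simp [hcA]
  have hb0 : 0 ≤ ∑ θ ∈ K.B, I θ := sum_nonneg fun χ _ => (hIr χ).1
  have hb1 : ∑ θ ∈ K.B, I θ ≤ 2 := by
    refine (sum_le_card_nsmul _ _ 1 fun χ _ => (hIr χ).2).trans ?_
    simp [hcB]
  rw [hz, ← sum_mul, ← sum_mul] at hdvd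
  omega

end Cfsg.Agent.Lib.M22Order33
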