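import Mathlib

/-!
Computable checks for the possible rows (degree, value at an involution) in the principal blocks
for 11, 7 and 5 of a simple group of order 443520.
-/

set_option autoImplicit false

namespace Cfsg.Agent.Lib.M22Order33.Check

/-- A degree with the value at an involution. -/
abbrev Pr := ℕ × ℤ

/-- All multisets of size `k` with elements in the list, as lists. -/
def combs {α : Type} : List α → ℕ → List (List α)
  | [], 0 => [[]]
  | [], _ + 1 => []
  | a :: as, k => (List.range (k + 1)).flatMap fun i => (combs as (k - i)).map (List.replicate i a ++ ·)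

/-- The square of the absolute value of a value. -/
def sq (a : Pr) : ℕ := a.2.natAbs * a.2.natAbs

/-- Evaluate a number before passing it on. -/
def force : ℕ → (ℕ → Bool) → Bool
  | 0, f => f 0
  | m + 1, f => f (m + 1)

theorem force_eq (n : ℕ) (f : ℕ → Bool) : force n f = f n := by cases n <;> rfl

/-- A test on all choices of one element from each list with bounded sum of squares; the test `g` on
the remaining bound and the accumulated weight filters the choices on which `f` has to hold. -/
def allPick : List (List (ℕ × ℕ × Pr)) → ℕ → ℕ → (ℕ → ℕ → Bool) → (List Pr → Bool) → Bool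
  | [], B, s, g, f => bif g B s then f [] else true
  | l :: ls, B, s, g, f =>
    l.all fun a => bif Nat.ble a.1 B then
      force (B - a.1) fun B' => force (s + a.2.1) fun s' =>
        allPick ls B' s' g (fun t => f (a.2.2 :: t))
      else true

theorem allPick_spec : ∀ (ls : List (List (ℕ × ℕ × Pr))) (B s : ℕ) (g : ℕ → ℕ → Bool)
    (f : List Pr → Bool) (L : List (ℕ × ℕ × Pr)),
    allPick ls B s g f = true → List.Forall₂ (fun a l => a ∈ l) L ls →
      (L.map fun a => a.1).sum ≤ B →
      g (B - (L.map fun a => a.1).sum) (s + (L.map fun a => a.2.1).sum) = true →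
        f (L.map fun a => a.2.2) = true := by
  intro ls
  induction ls with
  | nil =>
    intro B s g f L h hL _ hg
    cases hL
    simp only [allPick] at h
    simp only [List.map_nil, List.sum_nil, Nat.sub_zero, add_zero] at hg
    rw [hg, cond_true] at h
    simpa using h
  | cons l ls ih =>
    intro B s g f L h hL hB hg
    obtain _ | ⟨ha, hrest⟩ := hL
    rename_i a L'
    simp only [List.map_cons, List.sum_cons] at hB hg ⊢
    simp only [allPick, List.all_eq_true] at h
    have h1 := h a ha
    rw [Nat.ble_eq_true_of_le (by omega), cond_true, force_eq, force_eq] at h1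
    refine ih _ _ g (fun t => f (a.2.2 :: t)) L' h1 hrest (by omega) ?_
    rw [show B - a.1 - (L'.map fun a => a.1).sum = B - (a.1 + (L'.map fun a => a.1).sum) by omega,
      add_assoc]
    exact hg

/-- The residue, of absolute value one, of a degree modulo `p`. -/
def sgn (p d : ℕ) : ℤ := if d % p = 1 then 1 else -1

/-- The exceptional sign. -/
def eps (p e d : ℕ) : ℤ := if d % p = e % p then 1 else -1

/-- All divisors that can be degrees. -/
def allDegs : List ℕ :=
  [2, 3, 4, 5, 6, 7, 8, 9, 10, 11, 12, 14, 15, 16,
   18, 20, 21, 22, 24, 28, 30, 32, 33, 35, 36, 40, 42, 44,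
   45, 48, 55, 56, 60, 63, 64, 66, 70, 72, 77, 80, 84, 88,
   90, 96, 99, 105, 110, 112, 120, 126, 128, 132, 140, 144, 154, 160,
   165, 168, 176, 180, 192, 198, 210, 220, 224, 231, 240, 252, 264, 280,
   288, 308, 315, 320, 330, 336, 352, 360, 384, 385, 396, 420, 440, 448,
   462, 480, 495, 504, 528, 560, 576, 616, 630, 640, 660]

theorem mem_allDegs {d : ℕ} (h2 : 2 ≤ d) (h : d ∣ 443520) (hlt : d ≤ 665) : d ∈ allDegs := by
  revert h2 h
  revert d
  decide +kernel

/-- Degrees allowed by the block for eleven. -/
def ok11 (d : ℕ) : Bool := [0, 1, 10, 5, 6].contains (d % 11)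

/-- The admissible degrees of a non-trivial non-exceptional character. -/
def poolA (p M : ℕ) (bad : List ℕ) : List ℕ :=
  allDegs.filter fun d => decide (M % d = 0) && (decide (d % p = 1) || decide (d % p = p - 1)) && !bad.contains d

/-- The sum over a block weighted by the signs, on the degrees. -/
def linDeg (p : ℕ) (A : List ℕ) : ℤ := 1 + (A.map fun d => sgn p d * (d : ℤ)).sum

/-- The exceptional degree given the others. -/
def excDeg (p : ℕ) (A : List ℕ) : ℕ := (linDeg p A).natAbs

/-- The degree conditions on the exceptional part. -/
def okDegs (p e t M : ℕ) (bad : List ℕ) (A : List ℕ) : Bool :=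
  let b := excDeg p A
  decide (2 ≤ b) && decide (M % b = 0) && !bad.contains b &&
    (decide (b % p = e % p) || decide (b % p = p - e % p)) &&
    (eps p e b * (b : ℤ) == linDeg p A) &&
    decide (1 + (A.map fun d => d * d).sum + t * (b * b) ≤ 443520)

/-- A degree pattern: non-exceptional degrees and the exceptional degree. -/
abbrev Pat := List ℕ × ℕ

/-- The members with multiplicity. -/
def degsOf (t : ℕ) (T : Pat) : List ℕ := T.1 ++ List.replicate t T.2

/-- All patterns from a pool of degrees. -/
def patsFrom (p e t M : ℕ) (bad pool : List ℕ) : List Pat :=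
  ((combs pool (e - 1)).filter (okDegs p e t M bad)).map fun A => (A, excDeg p A)

/-- The degrees excluded by an involution centralizing the element: at most twice the prime. -/
def small (p : ℕ) : List ℕ := List.range (2 * p + 1)

/-- The patterns for eleven. -/
def pats11 : List Pat := patsFrom 11 5 2 40320 [] (poolA 11 40320 [])

/-- Containment as multisets. -/
def subList {α : Type} [DecidableEq α] (l₁ l₂ : List α) : Bool :=
  l₁.all fun a => decide (l₁.count a ≤ l₂.count a)

theorem subList_of_le {α : Type} [DecidableEq α] {l₁ l₂ : List α}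
    (h : (↑l₁ : Multiset α) ≤ ↑l₂) : subList l₁ l₂ = true := by
  simp only [subList, List.all_eq_true, decide_eq_true_eq]
  intro a _
  simpa using Multiset.count_le_of_le a h

/-- An option for a prime: `p`, `e`, `t`, the bound `M` for the degrees, the excluded degrees and
the possible orders of the centralizer of the involution. -/
structure Opt where
  p : ℕ
  e : ℕ
  t : ℕ
  M : ℕ
  bad : List ℕ
  Cs : List ℕ

/-- All patterns of an option compatible with the block for eleven. -/
def patsAll (o : Opt) : List Pat :=
  (patsFrom o.p o.e o.t o.M o.bad ((poolA o.p o.M o.bad).filter ok11)).filter fun S => ok11 S.2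

/-- The patterns in a list that fit the pattern for eleven. -/
def patsOpt (o : Opt) (ps : List Pat) (T : Pat) : List Pat :=
  ps.filter fun S =>
    subList ((degsOf o.t S).filter fun d => decide (d % 11 ≠ 0)) (degsOf 2 T)

/-- The patterns in a list that fit when the element is self-centralizing. -/
def patsSelf (o : Opt) (ps : List Pat) (T : Pat) : List Pat :=
  (patsOpt o ps T).filter fun S =>
    subList ((degsOf 2 T).filter fun d => decide (d % o.p ≠ 0)) (degsOf o.t S)

/-- The conditions on the value at an involution of a non-trivial character of degree `d`. -/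
def okVal (C d : ℕ) (v : ℤ) : Bool :=
  Nat.blt v.natAbs d && Nat.blt (v.natAbs * v.natAbs) C &&
    (v - (d : ℤ)) % 4 == 0 && (443520 / C * v.natAbs) % d == 0

/-- A bound for the square root. -/
def rootB (C : ℕ) : ℕ :=
  if C ≤ 100 then 10 else if C ≤ 400 then 20 else if C ≤ 900 then 30 else if C ≤ 2025 then 45
  else if C ≤ 5041 then 71 else if C ≤ 10000 then 100 else 201

/-- The possible values at an involution. -/
def cand (C d : ℕ) : List ℤ :=
  let st := d / Nat.gcd d (443520 / C)
  let k := Nat.min (d - 1) (rootB C) / st
  ((List.range (2 * k + 1)).map fun i : ℕ => (Int.ofNat i - (k : ℤ)) * (st : ℤ)).filter (okVal C d)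

/-- A row on the characters of a block: non-exceptional part and exceptional pair. -/
abbrev Row := List Pr × Pr

/-- The members with multiplicity. -/
def mem (t : ℕ) (R : Row) : List Pr := R.1 ++ List.replicate t R.2

/-- The sum over a block weighted by the signs. -/
def lin (p : ℕ) (A : List Pr) : ℤ := 1 + (A.map fun x => sgn p x.1 * x.2).sum

/-- The sum of squares. -/
def sqs (l : List Pr) : ℤ := (l.map fun x => x.2 * x.2).sum

/-- The weighted quadratic sum, cleared of denominators. -/
def quad (p e : ℕ) (R : Row) : ℤ :=
  443520 + (R.1.map fun x => sgn p x.1 * (x.2 * x.2) * ((443520 / x.1 : ℕ) : ℤ)).sum -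
    eps p e R.2.1 * (R.2.2 * R.2.2) * ((443520 / R.2.1 : ℕ) : ℤ)

/-- The exceptional value given the others. -/
def excVal (p e : ℕ) (T : Pat) (A : List Pr) : ℤ := eps p e T.2 * lin p A

/-- A choice with its square and its shifted contribution to the signed sum. -/
def prep (p : ℕ) (a : Pr) : ℕ × ℕ × Pr := (sq a, (sgn p a.1 * a.2 + 1024).toNat, a)

/-- A necessary condition on the remaining bound and the signed sum. -/
def leafOK (p e t k d : ℕ) (ok : ℕ → ℤ → Bool) (B s : ℕ) : Bool :=
  let l : ℤ := 1 + ((s : ℤ) - ((1024 * k : ℕ) : ℤ))
  bif Nat.ble (t * (l.natAbs * l.natAbs)) B then ok d (eps p e d * l) else false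

/-- A test on all rows from a choice of values. -/
def allRows (p e t C : ℕ) (vals : ℕ → List ℤ) (ok : ℕ → ℤ → Bool) (T : Pat) (f : Row → Bool) : Bool :=
  allPick (T.1.map fun d => (vals d).map fun v => prep p (d, v)) (C - 1) 0
    (leafOK p e t T.1.length T.2 ok) fun A => f (A, (T.2, excVal p e T A))

/-- A test on all rows for eleven. -/
def all11 (C : ℕ) (T : Pat) (f : Row → Bool) : Bool :=
  allRows 11 5 2 C (cand C) (okVal C) T fun R => bif quad 11 5 R == 0 then f R else true

/-- Values allowed in another block: from the row for eleven when the degree is prime to eleven. -/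
def valsIn (C : ℕ) (R : List Pr) (d : ℕ) : List ℤ :=
  if d % 11 = 0 then cand C d else (R.filter fun x => x.1 == d).map Prod.snd

/-- The same condition as a test. -/
def okIn (C : ℕ) (R : List Pr) (d : ℕ) (v : ℤ) : Bool :=
  okVal C d v && (d % 11 == 0 || R.contains (d, v))

/-- The congruence between value and degree modulo `p`. -/
def congOK (p d : ℕ) (v : ℤ) : Bool := (v - (d : ℤ)) % (p : ℤ) == 0

/-- The pair count condition in a self-centralizing block. -/
def quadOK (p C : ℕ) (Q : Row) : Bool :=
  if p = 7 then quad 7 3 Q == 0
  else decide (quad 5 4 Q % ((C * C : ℕ) : ℤ) = 0) && decide (0 ≤ quad 5 4 Q)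

/-- A test on all rows in the block of the self-centralizing element. -/
def allSelf (o : Opt) (C : ℕ) (R : List Pr) (S : Pat) (f : Row → Bool) : Bool :=
  allRows o.p o.e o.t C (valsIn C R) (okIn C R) S fun Q =>
    bif quadOK o.p C Q && subList (R.filter fun x => decide (x.1 % o.p ≠ 0)) (mem o.t Q) &&
        subList ((mem o.t Q).filter fun x => decide (x.1 % 11 ≠ 0)) R
      then f Q else true

/-- A test on all rows in the block of the element centralized by the involution. -/
def allOpt (o : Opt) (C : ℕ) (R : List Pr) (S : Pat) (f : Row → Bool) : Bool :=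
  allRows o.p o.e o.t C (fun d => (valsIn C R d).filter (congOK o.p d))
    (fun d v => congOK o.p d v && okIn C R d v) S fun P =>
      bif subList ((mem o.t P).filter fun x => decide (x.1 % 11 ≠ 0)) R then f P else true

/-- The inequality of Cauchy and Schwarz on the remaining characters. -/
def restOK (C u : ℕ) (U : List Pr) : Bool :=
  let r : ℤ := 443519 - (U.map fun x => (x.1 : ℤ) * (x.1 : ℤ)).sum
  let s : ℤ := (C : ℤ) - 1 - sqs U
  let l : ℤ := 1 + (U.map fun x => (x.1 : ℤ) * x.2).sum
  decide (0 ≤ r) && decide (0 ≤ s) && decide (r % ((u * u : ℕ) : ℤ) = 0) && decide (l * l ≤ r * s)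

/-- The extra obstruction: a 2-central involution and the characters 120, 55, 66, 66. -/
def badTwo (p C : ℕ) (Q : Row) : Bool :=
  decide (p = 7) && decide (C % 128 = 0) && (Q.1.map Prod.fst).isPerm [120, 55] && Q.2.1 == 66 &&
    Q.1.contains ((120, 0) : Pr)

/-- The characters of the three blocks: for eleven, the self-centralizing prime, the other. -/
def union (q o : Opt) (R : List Pr) (Q P : Row) : List Pr :=
  R ++ (mem q.t Q).filter (fun x => decide (x.1 % 11 = 0)) ++
    (mem o.t P).filter (fun x => decide (x.1 % 11 = 0) && decide (x.1 % q.p = 0))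

/-- Whether a configuration of three blocks survives. -/
def compat (q o : Opt) (C : ℕ) (R : List Pr) (Q P : Row) : Bool :=
  subList ((mem o.t P).filter fun x => decide (x.1 % q.p ≠ 0)) (mem q.t Q) &&
    restOK C (11 * q.p) (union q o R Q P)

/-- The self-centralizing option for seven. -/
def self7 : Opt := ⟨7, 3, 2, 63360, [], []⟩

/-- The self-centralizing option for five. -/
def self5 : Opt := ⟨5, 4, 1, 88704, [], []⟩

/-- Whether the option is excluded when the other element is self-centralizing. -/
def killMixed (q : Opt) (pq : List Pat) (o : Opt) (po : List Pat) (T : Pat) : Bool :=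
  (patsOpt o po T).isEmpty || (patsSelf q pq T).isEmpty || o.Cs.all fun C =>
    all11 C T fun R => (patsSelf q pq T).all fun S => allSelf q C (mem 2 R) S fun Q =>
      badTwo q.p C Q || (patsOpt o po T).all fun S' =>
        allOpt o C (mem 2 R) S' fun P => !compat q o C (mem 2 R) Q P

/-- Whether no row for eleven exists for the option. -/
def noRow (o : Opt) (po : List Pat) (T : Pat) : Bool :=
  (patsOpt o po T).isEmpty || o.Cs.all fun C => all11 C T fun _ => false

/-- The centralizer orders of an involution centralizing no element of order at least five. -/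
def small2 : List ℕ :=
  [2, 4, 6, 8, 12, 16, 18, 24, 32, 36, 48, 64, 72, 96, 128, 144, 192, 288, 384, 576, 1152]

/-- The degrees and the values at an involution in the Mathieu group. -/
def table : List Pr :=
  [(21, 5), (45, -3), (45, -3), (210, 2), (280, -8), (280, -8), (55, 7), (99, 3), (154, 10), (231, 7)]

/-- When both elements are self-centralizing only the Mathieu configuration survives. -/
def onlyM22 (p7 p5 : List Pat) (T : Pat) : Bool :=
  (patsSelf self7 p7 T).isEmpty || (patsSelf self5 p5 T).isEmpty || small2.all fun C =>
    all11 C T fun R => (patsSelf self7 p7 T).all fun S => allSelf self7 C (mem 2 R) S fun Q =>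
      (patsSelf self5 p5 T).all fun S' => allSelf self5 C (mem 2 R) S' fun P =>
        bif subList ((mem 2 Q).filter fun x => decide (x.1 % 5 ≠ 0)) (mem 1 P) &&
            compat self7 self5 C (mem 2 R) Q P
          then C == 384 && (union self7 self5 (mem 2 R) Q P).isPerm table
          else true

end Cfsg.Agent.Lib.M22Order33.Check
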