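import Cfsg.Agent.Lib.BrauerTuan.SmallBlock
import Cfsg.Agent.Lib.BrauerTuan.InvolutionDet
import Cfsg.Agent.Lib.BrauerTuan.Main
import Cfsg.Agent.Lib.SmallGroups.Basic
import Cfsg.Agent.Lib.SmallGroups.PrimeChar.Involutions
import Cfsg.Agent.Lib.M22Order33.Check

/-!
Values at involutions of the characters of a simple group of order 443520.
-/

set_option autoImplicit false
set_option linter.unusedSectionVars false
set_option linter.style.haveILetI false

namespace Cfsg.Agent.Lib.M22Order33

open scoped ComplexConjugate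
open Cfsg Cfsg.Agent.Lib Finset
open Cfsg.Agent.Lib.BrauerReynolds Cfsg.Agent.Lib.BrauerTuan Cfsg.Agent.Lib.DefectOne

universe u

variable {G : Type u} [Group G] [Fintype G] [IsSimpleGroup G]

theorem not_comm (h : Nat.card G = 443520) : ¬ IsMulCommutative G :=
  SmallGroups.not_isMulCommutative_of_not_prime (by rw [h]; norm_num)

theorem exists_noncomm (h : Nat.card G = 443520) : ∃ a b : G, a * b ≠ b * a := by
  by_contra hc
  push Not at hc
  exact not_comm h ⟨⟨hc⟩⟩

omit [IsSimpleGroup G] in
theorem degOf_dvd (h : Nat.card G = 443520) (χ : IrrCharacter G) : degOf χ ∣ 443520 := by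
  obtain ⟨n, -, hn, hd⟩ := Chars.irr_degree_dvd_card χ
  rw [apply_one_eq_degOf, Nat.cast_inj] at hn
  rw [← h, hn]
  exact hd

theorem two_le_degOf (h : Nat.card G = 443520) {χ : IrrCharacter G}
    (hne : χ ≠ Chars.trivialIrr G) : 2 ≤ degOf χ := by
  by_contra hlt
  have h1 : degOf χ = 1 := by have := degOf_pos χ; omega
  have h2 : (χ : G → ℂ) 1 = 1 := by rw [apply_one_eq_degOf, h1, Nat.cast_one]
  obtain ⟨f, hf⟩ := Chars.exists_hom_of_degree_one (Chars.irr_isCharacter χ) h2
  refine hne (Subtype.ext (funext fun g => ?_))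
  rw [Chars.trivialIrr_apply, hf]
  simp [SmallGroups.hom_commGroup_eq_one (not_comm h) f g]

omit [IsSimpleGroup G] in
theorem degOf_le (h : Nat.card G = 443520) {χ : IrrCharacter G}
    (hne : χ ≠ Chars.trivialIrr G) : degOf χ ≤ 665 := by
  have h1 := sq_degOf_lt hne
  rw [h] at h1
  by_contra hlt
  have : 666 * 666 ≤ degOf χ * degOf χ := Nat.mul_le_mul (by omega) (by omega)
  omega

theorem mem_allDegs (h : Nat.card G = 443520) {χ : IrrCharacter G}
    (hne : χ ≠ Chars.trivialIrr G) : degOf χ ∈ Check.allDegs :=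
  Check.mem_allDegs (two_le_degOf h hne) (degOf_dvd h χ) (degOf_le h hne)

open Classical in
/-- The integer value of a character at an involution. -/
noncomputable def iv (χ : IrrCharacter G) (t : G) : ℤ :=
  if h : ∃ a : ℤ, (χ : G → ℂ) t = a then h.choose else 0

omit [IsSimpleGroup G] in
theorem iv_spec (χ : IrrCharacter G) {t : G} (ht : orderOf t = 2) :
    (χ : G → ℂ) t = (iv χ t : ℂ) := by
  have h := SmallGroups.PrimeChar.exists_int_apply_involution χ ht
  rw [iv, dif_pos h]
  exact h.choose_spec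

omit [IsSimpleGroup G] in
theorem iv_trivial {t : G} (ht : orderOf t = 2) : iv (Chars.trivialIrr G) t = 1 := by
  have h := iv_spec (Chars.trivialIrr G) ht
  rw [Chars.trivialIrr_apply] at h
  exact_mod_cast h.symm

omit [IsSimpleGroup G] in
theorem mul_self_eq_one {t : G} (ht : orderOf t = 2) : t * t = 1 := by
  have := pow_orderOf_eq_one t
  rwa [ht, pow_two] at this

omit [IsSimpleGroup G] in
theorem ne_one_of_orderOf_two {t : G} (ht : orderOf t = 2) : t ≠ 1 := fun h => by
  rw [h, orderOf_one] at ht; omega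

/-- The value at a non-central element is smaller than the degree. -/
theorem norm_lt_degOf (h : Nat.card G = 443520) {χ : IrrCharacter G}
    (hne : χ ≠ Chars.trivialIrr G) {g : G} (hg : g ≠ 1) : ‖(χ : G → ℂ) g‖ < degOf χ := by
  obtain ⟨n, ρ, hρ, hρχ⟩ := Chars.irr_exists_rep χ
  have hfin : Module.finrank ℂ (Fin n → ℂ) = degOf χ := by
    have h1 : ρ.character 1 = (χ : G → ℂ) 1 := by rw [hρχ]
    rw [Representation.char_one, apply_one_eq_degOf] at h1
    exact_mod_cast h1
  refine lt_of_le_of_ne ?_ fun heq => ?_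
  · have h1 := Chars.norm_char_le_degree (Chars.irr_isCharacter χ) g
    rwa [apply_one_eq_degOf, Complex.natCast_re] at h1
  obtain ⟨c, hc⟩ := (Chars.norm_char_eq_iff ρ g).mp (by rw [hfin, hρχ]; exact heq)
  have hgz : g ∈ Subgroup.center G := by
    refine Subgroup.mem_center_iff.2 fun x => ?_
    have h4 : ρ (x * g) = ρ (g * x) := by
      rw [map_mul, map_mul, hc, ← Module.End.one_eq_id, Algebra.mul_smul_comm,
        Algebra.smul_mul_assoc, mul_one, one_mul]
    exact mul_inv_eq_one.mp (faithful_of_ne_trivial hne (by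
      rw [← hρχ]
      have h6 : ρ (x * g * (g * x)⁻¹) = 1 := by
        rw [map_mul, h4, ← map_mul, mul_inv_cancel, map_one]
      simp only [Representation.character, h6, map_one]))
  rw [SmallGroups.center_eq_bot (not_comm h), Subgroup.mem_bot] at hgz
  exact hg hgz

omit [IsSimpleGroup G] in
theorem sum_iv_sq {t : G} (ht : orderOf t = 2) :
    ∑ χ : IrrCharacter G, iv χ t * iv χ t = (Nat.card (Subgroup.centralizer ({t} : Set G)) : ℤ) := by
  classical
  have h1 := (column_sum t t).trans (card_transporter t t)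
  rw [Chars.classIndicator, if_pos (IsConj.refl t), mul_one] at h1
  apply Int.cast_injective (α := ℂ)
  push_cast
  rw [← h1]
  refine sum_congr rfl fun χ _ => ?_
  rw [iv_spec χ ht, map_intCast]

omit [IsSimpleGroup G] in
theorem sum_iv_mul {s t : G} (hs : orderOf s = 2) (ht : orderOf t = 2) (hne : ¬ IsConj s t) :
    ∑ χ : IrrCharacter G, iv χ s * iv χ t = 0 := by
  classical
  have h1 := (column_sum s t).trans (card_transporter s t)
  rw [Chars.classIndicator, if_neg hne, mul_zero] at h1
  apply Int.cast_injective (α := ℂ)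
  push_cast
  rw [← h1]
  refine sum_congr rfl fun χ _ => ?_
  rw [iv_spec χ hs, iv_spec χ ht, map_intCast]

omit [IsSimpleGroup G] in
theorem sum_deg_iv {t : G} (ht : orderOf t = 2) :
    ∑ χ : IrrCharacter G, (degOf χ : ℤ) * iv χ t = 0 := by
  classical
  have h1 := Chars.sum_degree_mul_irr (G := G) t
  rw [if_neg (ne_one_of_orderOf_two ht)] at h1
  apply Int.cast_injective (α := ℂ)
  push_cast
  refine Eq.trans (sum_congr rfl fun χ _ => ?_) h1
  rw [iv_spec χ ht, apply_one_eq_degOf]

omit [IsSimpleGroup G] in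
theorem sum_degOf_sq (h : Nat.card G = 443520) :
    ∑ χ : IrrCharacter G, degOf χ * degOf χ = 443520 := by
  apply Nat.cast_injective (R := ℂ)
  rw [← h, ← Chars.sum_degree_sq]
  push_cast
  exact sum_congr rfl fun χ _ => by rw [apply_one_eq_degOf, sq]

/-- The conditions on the value at an involution. -/
theorem okVal_iv (h : Nat.card G = 443520) {χ : IrrCharacter G} (hne : χ ≠ Chars.trivialIrr G)
    {t : G} (ht : orderOf t = 2) :
    Check.okVal (Nat.card (Subgroup.centralizer ({t} : Set G))) (degOf χ) (iv χ t) = true := by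
  classical
  set C := Nat.card (Subgroup.centralizer ({t} : Set G)) with hCdef
  set a := iv χ t with ha
  have h1 : a.natAbs < degOf χ := by
    have h2 := norm_lt_degOf h hne (ne_one_of_orderOf_two ht)
    rw [iv_spec χ ht, Complex.norm_intCast, ← Int.cast_abs, ← Nat.cast_natAbs] at h2
    exact_mod_cast h2
  have h2 : a.natAbs * a.natAbs < C := by
    have h3 := sum_le_sum_of_subset_of_nonneg (subset_univ ({χ, Chars.trivialIrr G} : Finset _))
      (f := fun ψ : IrrCharacter G => iv ψ t * iv ψ t) fun ψ _ _ => mul_self_nonneg _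
    rw [sum_pair hne, iv_trivial ht, sum_iv_sq ht, ← Int.natAbs_mul_self] at h3
    zify
    push_cast at h3
    linarith
  have h3 : (4 : ℤ) ∣ (degOf χ : ℤ) - a :=
    dvd_sub_apply_involution (not_comm h) χ (mul_self_eq_one ht) (iv_spec χ ht)
  have h4 : degOf χ ∣ 443520 / C * a.natAbs := by
    have h5 := degOf_dvd_index_mul (iv_spec χ ht)
    rw [Int.natCast_dvd, Int.natAbs_mul, Int.natAbs_natCast] at h5
    convert h5 using 2
    rw [← h, ← (Subgroup.centralizer ({t} : Set G)).card_mul_index,
      Nat.mul_div_cancel_left _ Nat.card_pos]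
  simp only [Check.okVal, Bool.and_eq_true, Nat.blt_eq, beq_iff_eq]
  refine ⟨⟨⟨h1, h2⟩, ?_⟩, Nat.mod_eq_zero_of_dvd h4⟩
  have := Int.emod_emod_of_dvd (((degOf χ : ℤ) - a)) (dvd_refl 4)
  omega

end Cfsg.Agent.Lib.M22Order33
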