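import Cfsg.Agent.Lib.M22Order33.Basic
import Cfsg.Agent.Lib.SmallGroups.PrimeSylow
import Cfsg.Agent.Lib.Blocks.SectionSums
import Cfsg.Agent.Lib.PSolvable.Core

/-!
The principal block of an element of prime order in a simple group of order 443520, with the
trivial character split off.
-/

set_option autoImplicit false
set_option linter.unusedSectionVars false
set_option linter.style.haveILetI false

namespace Cfsg.Agent.Lib.M22Order33

open scoped ComplexConjugate
open Cfsg Cfsg.Agent.Lib Finset Subgroup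
open Cfsg.Agent.Lib.BrauerReynolds Cfsg.Agent.Lib.BrauerTuan Cfsg.Agent.Lib.DefectOne
open Cfsg.Agent.Lib.SmallGroups.PrimeChar (xp fusion xp_one centralizer_xp)

universe u

variable {G : Type u} [Group G] [Fintype G] {p : ℕ} [hp : Fact p.Prime]

/-- The complement lies in the core of the centralizer. -/
theorem le_core (S : Local p G) : S.V ≤ centralizerPPrimeCore p S.x := by
  intro v hv
  have hVC : S.V ≤ centralizer ({S.x} : Set G) := fun w hw =>
    mem_centralizer_singleton_iff.mpr (S.commute w hw).eq.symm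
  haveI : (S.V.subgroupOf (centralizer ({S.x} : Set G))).Normal := by
    constructor
    intro w hw c
    rw [mem_subgroupOf] at hw ⊢
    have h1 := S.norm_V (c : G)⁻¹ (by
      have h2 := mem_centralizer_singleton_iff.mp (inv_mem c.2)
      rw [h2, mul_assoc, mul_inv_cancel, mul_one]
      exact mem_zpowers _) _ hw
    simpa using h1
  refine ⟨⟨v, hVC hv⟩, PSolvable.le_pPrimeCore (N := S.V.subgroupOf _) ?_ hv, rfl⟩
  rw [Nat.card_congr (Subgroup.subgroupOfEquivOfLe hVC).toEquiv]
  exact (hp.out.coprime_iff_not_dvd.mpr S.coprime).symm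

/-- The principal block without the trivial character. -/
structure Blk (D : Setting p G) where
  /-- The non-exceptional characters. -/
  A : Finset (IrrCharacter G)
  /-- The exceptional characters. -/
  B : Finset (IrrCharacter G)
  /-- The signs. -/
  δ : IrrCharacter G → ℤ
  /-- The exceptional sign. -/
  ε : ℤ
  triv_notMem : Chars.trivialIrr G ∉ A ∪ B
  mem_setting : ∀ χ ∈ A ∪ B, χ ∈ D.A ∪ D.B
  disj : Disjoint A B
  cardA : A.card + 1 = D.e
  cardB : B.card = D.t
  δ_unit : ∀ χ ∈ A, δ χ = 1 ∨ δ χ = -1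
  ε_unit : ε = 1 ∨ ε = -1
  congrA : ∀ χ ∈ A, (degOf χ : ℤ) ≡ δ χ [ZMOD p]
  congrB : ∀ θ ∈ B, (degOf θ : ℤ) ≡ ε * D.e [ZMOD p]
  dvd : ∀ χ ∈ A ∪ B, degOf χ ∣ D.e * (1 + D.n * p)
  applyA : ∀ χ ∈ A, ∀ j : ZMod p, j ≠ 0 → (χ : G → ℂ) (xp p D.S.x j) = (δ χ : ℂ)
  sumB : ∀ θ ∈ B, ∑ j ∈ (univ : Finset (ZMod p)).erase 0, (θ : G → ℂ) (xp p D.S.x j) =
    -((ε : ℂ) * D.e)
  rel : ∀ θ ∈ B, ∀ g : G, ¬ p ∣ orderOf g →
    (ε : ℂ) * (θ : G → ℂ) g = 1 + ∑ χ ∈ A, (δ χ : ℂ) * (χ : G → ℂ) g
  apply_mul : ∀ χ ∈ A ∪ B, ∀ v ∈ D.S.V, ∀ j : ZMod p, j ≠ 0 →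
    (χ : G → ℂ) (xp p D.S.x j * v) = (χ : G → ℂ) (xp p D.S.x j)
  vanish : D.S.V = ⊥ → ∀ χ, χ ≠ Chars.trivialIrr G → χ ∉ A ∪ B →
    ∀ j : ZMod p, j ≠ 0 → (χ : G → ℂ) (xp p D.S.x j) = 0

theorem exists_profile_ne_zero (D : Setting p G) {θ : IrrCharacter G} (hθ : θ ∈ D.B) :
    ∃ j : ZMod p, j ≠ 0 ∧ profile D.S θ j ≠ 0 := by
  by_contra hc
  push Not at hc
  have h := D.sum_profileB hθ
  rw [sum_eq_zero fun j hj => hc j (ne_of_mem_erase hj), eq_comm, neg_eq_zero, mul_eq_zero] at h
  have := D.two_le_e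
  rcases h with h | h
  · rcases D.ε_unit with h' | h' <;> simp [h'] at h
  · rw [Nat.cast_eq_zero] at h; omega

/-- The value on the coset of the complement is constant in the principal block. -/
theorem setting_apply_mul (D : Setting p G) {χ : IrrCharacter G} (hχ : χ ∈ D.A ∪ D.B)
    {v : G} (hv : v ∈ D.S.V) {j : ZMod p} (hj : j ≠ 0) :
    (χ : G → ℂ) (xp p D.S.x j * v) = (χ : G → ℂ) (xp p D.S.x j) := by
  obtain ⟨M, hM⟩ := Glauberman.exists_isPModular hp.out
  haveI := Blocks.isPModular_isPrime hM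
  have hidx : ¬ p ∣ (centralizer ({D.S.x} : Set G)).index := by
    have h := (centralizer ({D.S.x} : Set G)).card_mul_index
    rw [card_centralizer_x, D.card_group] at h
    rw [Nat.eq_of_mul_eq_mul_left (Nat.mul_pos hp.out.pos Nat.card_pos) h, hp.out.dvd_mul]
    rintro (h' | h')
    · have h1 := D.het
      have := Nat.le_of_dvd (by have := D.two_le_e; omega) h'
      have h2 : D.e ≤ p - 1 := Nat.le_of_dvd (by have := hp.out.two_le; omega) (Dvd.intro _ h1)
      have := hp.out.two_le
      omega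
    · rw [Nat.dvd_add_left (dvd_mul_left p D.n), Nat.dvd_one] at h'
      exact hp.out.ne_one h'
  refine apply_coset D.S (le_core D.S) hM ?_ hj hv
  obtain ⟨i, hi, hne⟩ : ∃ i : ZMod p, i ≠ 0 ∧ profile D.S χ i ≠ 0 := by
    rcases mem_union.mp hχ with h | h
    · refine ⟨1, one_ne_zero, ?_⟩
      rw [D.profileA χ h 1 one_ne_zero]
      rcases D.δ_unit χ h with h' | h' <;> simp [h']
    · exact exists_profile_ne_zero D h
  exact (mem_principalBlock_iff D.S hM (le_core D.S) hidx χ hi).mpr hne

theorem exists_blk (D : Setting p G) : Nonempty (Blk D) := by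
  classical
  have ht0 : 1 ≤ D.t := by
    rcases Nat.eq_zero_or_pos D.t with h | h
    · have h1 := D.het
      rw [h, mul_zero] at h1
      have := hp.out.two_le
      omega
    · exact h
  have hone : ∀ j : ZMod p, profile D.S (Chars.trivialIrr G) j = 1 := profile_trivial D.S
  have hvan : ∀ T : Finset (IrrCharacter G), T ∪ {Chars.trivialIrr G} = D.A ∪ D.B →
      D.S.V = ⊥ → ∀ χ, χ ≠ Chars.trivialIrr G → χ ∉ T →
      ∀ j : ZMod p, j ≠ 0 → (χ : G → ℂ) (xp p D.S.x j) = 0 := by
    intro T hT hV χ hne hχ j hj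
    obtain ⟨K⟩ := exists_frame D hV
    have hnot : χ ∉ D.A ∪ D.B := by
      rw [← hT, mem_union, mem_singleton]
      exact not_or.mpr ⟨hχ, hne⟩
    rw [mem_union, not_or] at hnot
    rw [← K.profile_eq χ j, D.profile_rest χ hnot.1 hnot.2 j hj]
  have hsumB : ∀ θ ∈ D.B, ∑ j ∈ (univ : Finset (ZMod p)).erase 0, (θ : G → ℂ) (xp p D.S.x j) =
      -((D.ε : ℂ) * D.e) := fun θ hθ => by
    rw [← D.sum_profileB hθ]
    exact sum_congr rfl fun j hj => D.applyB θ hθ j (ne_of_mem_erase hj)
  rcases mem_union.mp D.triv_mem with h1 | h1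
  · have hδ : D.δ (Chars.trivialIrr G) = 1 := by
      have h := D.profileA _ h1 1 one_ne_zero
      rw [hone] at h
      exact_mod_cast h.symm
    exact ⟨{
      A := D.A.erase (Chars.trivialIrr G), B := D.B, δ := D.δ, ε := D.ε
      triv_notMem := by
        rw [mem_union, not_or]
        exact ⟨fun h => (mem_erase.mp h).1 rfl, fun h => disjoint_left.mp D.disj h1 h⟩
      disj := D.disj.mono_left (erase_subset _ _)
      mem_setting := fun χ hχ => union_subset_union (erase_subset _ _) (Finset.Subset.refl _) hχ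
      cardA := by rw [card_erase_add_one h1, D.cardA]
      cardB := D.cardB
      δ_unit := fun χ hχ => D.δ_unit χ (mem_of_mem_erase hχ)
      ε_unit := D.ε_unit
      congrA := fun χ hχ => D.congrA χ (mem_of_mem_erase hχ)
      congrB := D.congrB
      dvd := fun χ hχ => by
        rcases mem_union.mp hχ with h | h
        exacts [D.dvdA χ (mem_of_mem_erase h), D.dvdB χ h]
      applyA := fun χ hχ => D.applyA χ (mem_of_mem_erase hχ)
      sumB := hsumB
      rel := fun θ hθ g hg => by
        rw [D.rel θ hθ g hg, ← add_sum_erase _ _ h1, hδ, Chars.trivialIrr_apply]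
        push_cast
        ring
      apply_mul := fun χ hχ v hv j hj => setting_apply_mul D (union_subset_union (erase_subset _ _)
        (Finset.Subset.refl _) hχ) hv hj
      vanish := hvan _ (by
        ext χ
        simp only [mem_union, mem_erase, mem_singleton]
        by_cases hc : χ = Chars.trivialIrr G <;> simp [hc, h1]) }⟩
  -- the trivial character is exceptional, so there is one exceptional character
  have ht : D.t = 1 := by
    by_contra h
    exact disjoint_left.mp D.disj (D.trivial_mem_A (by omega)).1 h1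
  have hB : D.B = {Chars.trivialIrr G} := by
    obtain ⟨θ, hθ⟩ := card_eq_one.mp (D.cardB.trans ht)
    rw [hθ, mem_singleton] at h1
    rw [hθ, h1]
  have hε : D.ε = -1 := by
    have h := D.profileB_const ht h1 (j := 1) one_ne_zero
    rw [hone] at h
    have : ((1 : ℤ) : ℂ) = ((-D.ε : ℤ) : ℂ) := by rw [Int.cast_one]; exact h
    have := Int.cast_injective this
    omega
  obtain ⟨χ0, hχ0⟩ : D.A.Nonempty := card_pos.mp (by rw [D.cardA]; have := D.two_le_e; omega)
  have he : (D.e : ℤ) ≡ -1 [ZMOD p] := by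
    have h1 := D.het
    rw [ht, mul_one] at h1
    rw [Int.modEq_iff_dvd, h1, Nat.cast_sub hp.out.pos, Nat.cast_one]
    exact ⟨-1, by ring⟩
  have hnt : Chars.trivialIrr G ∉ D.A := fun h => disjoint_left.mp D.disj h h1
  exact ⟨{
    A := D.A.erase χ0, B := {χ0}, δ := D.δ, ε := -D.δ χ0
    triv_notMem := by
      rw [mem_union, not_or, mem_singleton]
      exact ⟨fun h => hnt (mem_of_mem_erase h), fun h => hnt (h ▸ hχ0)⟩
    disj := by
      rw [disjoint_singleton_right]
      exact fun h => (mem_erase.mp h).1 rfl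
    cardA := by rw [card_erase_add_one hχ0, D.cardA]
    cardB := by rw [card_singleton, ht]
    mem_setting := fun χ hχ => by
      refine mem_union_left _ ?_
      rcases mem_union.mp hχ with h | h
      · exact mem_of_mem_erase h
      · rw [mem_singleton] at h; exact h ▸ hχ0
    δ_unit := fun χ hχ => D.δ_unit χ (mem_of_mem_erase hχ)
    ε_unit := by rcases D.δ_unit χ0 hχ0 with h | h <;> simp [h]
    congrA := fun χ hχ => D.congrA χ (mem_of_mem_erase hχ)
    congrB := fun θ hθ => by
      rw [mem_singleton] at hθ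
      subst hθ
      refine (D.congrA θ hχ0).trans ?_
      simpa using (he.symm.mul_left (-D.δ θ))
    dvd := fun χ hχ => by
      rcases mem_union.mp hχ with h | h
      · exact D.dvdA χ (mem_of_mem_erase h)
      · rw [mem_singleton] at h
        exact D.dvdA χ (h ▸ hχ0)
    applyA := fun χ hχ => D.applyA χ (mem_of_mem_erase hχ)
    sumB := fun θ hθ => by
      rw [mem_singleton] at hθ
      subst hθ
      rw [sum_congr rfl fun j hj => D.applyA θ hχ0 j (ne_of_mem_erase hj), sum_const,
        card_erase_of_mem (mem_univ _), card_univ, ZMod.card, nsmul_eq_mul, ← D.het, ht, mul_one]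
      push_cast
      ring
    rel := fun θ hθ g hg => by
      rw [mem_singleton] at hθ
      subst hθ
      have h := D.rel _ h1 g hg
      rw [Chars.trivialIrr_apply, hε, ← add_sum_erase _ _ hχ0] at h
      push_cast at h ⊢
      linear_combination h
    apply_mul := fun χ hχ v hv j hj => by
      refine setting_apply_mul D (mem_union_left _ ?_) hv hj
      rcases mem_union.mp hχ with h | h
      · exact mem_of_mem_erase h
      · rw [mem_singleton] at h; exact h ▸ hχ0
    vanish := hvan _ (by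
      ext χ
      simp only [hB, mem_union, mem_erase, mem_singleton]
      by_cases hc : χ = χ0 <;> simp [hc, hχ0]) }⟩

/-- The value at an involution of the complement is congruent to the degree modulo `p`. -/
theorem Blk.congr_iv {D : Setting p G} (K : Blk D) {χ : IrrCharacter G} (hχ : χ ∈ K.A ∪ K.B)
    {v : G} (hv : v ∈ D.S.V) (h2 : orderOf v = 2) : (p : ℤ) ∣ iv χ v - (degOf χ : ℤ) := by
  obtain ⟨M, hM⟩ := Glauberman.exists_isPModular hp.out
  haveI := Blocks.isPModular_isPrime hM
  have hx : ∃ k : ℕ, orderOf D.S.x = p ^ k := ⟨1, by rw [D.S.order_x, pow_one]⟩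
  have hreg : ¬ p ∣ orderOf v := fun h => D.S.coprime (h.trans (Subgroup.orderOf_dvd_natCard _ hv))
  have h := Blocks.memLocalIdeal_char_sub hM (Chars.irr_isCharacter χ)
    (Blocks.Sections.isPPart_mul p hx (D.S.commute v hv) hreg)
  rw [inv_mul_cancel_left] at h
  have h' := memLocalIdeal_apply_sub_degree D.S hM χ (j := (1 : ZMod p)) one_ne_zero
  rw [← (Chars.charDegree_spec χ).2, apply_one_eq_degOf, xp_one] at h'
  have hc := K.apply_mul χ hχ v hv 1 one_ne_zero
  rw [xp_one] at hc
  rw [hc] at h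
  have h3 := Blocks.memLocalIdeal_sub h' h
  rw [iv_spec χ h2, show (χ : G → ℂ) D.S.x - (degOf χ : ℂ) - ((χ : G → ℂ) D.S.x - (iv χ v : ℂ)) =
    ((iv χ v - (degOf χ : ℤ) : ℤ) : ℂ) by push_cast; ring] at h3
  exact (Blocks.memLocalIdeal_intCast_iff hM _).mp h3

end Cfsg.Agent.Lib.M22Order33
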