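import Cfsg.Agent.Lib.M22Order33.Data

/-!
An option for seven and an option for five exclude each other.
-/

set_option autoImplicit false
set_option maxRecDepth 4000

namespace Cfsg.Agent.Lib.M22Order33.Check

theorem kill_both :
    (list11.all fun T => (noRow opt7a list7a T && noRow opt7b list7b T) ||
      (noRow opt5a list5a T && noRow opt5b list5b T && noRow opt5c list5c T)) = true := by
  decide +kernel

end Cfsg.Agent.Lib.M22Order33.Check
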