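import Cfsg.Agent.Lib.M22Order33.Data

/-!
The options for five with `e = 4` against a self-centralizing element of order seven.
-/

set_option autoImplicit false
set_option maxRecDepth 4000

namespace Cfsg.Agent.Lib.M22Order33.Check

theorem kill_5b :
    (list11.all fun T => killMixed self7 listSelf7 opt5b list5b T) = true := by
  decide +kernel

theorem kill_5c :
    (list11.all fun T => killMixed self7 listSelf7 opt5c list5c T) = true := by
  decide +kernel

end Cfsg.Agent.Lib.M22Order33.Check
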