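import Cfsg.Agent.Lib.M22Order33.Data

/-!
Two self-centralizing elements leave only the configuration of the Mathieu group.
-/

set_option autoImplicit false
set_option maxRecDepth 4000

namespace Cfsg.Agent.Lib.M22Order33.Check

theorem only_m22 : (list11.all fun T => onlyM22 listSelf7 listSelf5 T) = true := by
  decide +kernel

end Cfsg.Agent.Lib.M22Order33.Check
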