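import Cfsg.Agent.Lib.M22Order33.Data

/-!
The option for seven with `e = 3` against a self-centralizing element of order five.
-/

set_option autoImplicit false
set_option maxRecDepth 4000

namespace Cfsg.Agent.Lib.M22Order33.Check

theorem kill_7a :
    (list11.all fun T => killMixed self5 listSelf5 opt7a list7a T) = true := by
  decide +kernel

end Cfsg.Agent.Lib.M22Order33.Check
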