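import Cfsg.Agent.Lib.M22Order33.Mixed
import Cfsg.Agent.Lib.M22Order33.CertSevenA
import Cfsg.Agent.Lib.M22Order33.CertSevenB
import Cfsg.Agent.Lib.M22Order33.CertFiveA
import Cfsg.Agent.Lib.M22Order33.CertFiveB
import Cfsg.Agent.Lib.M22Order33.CertBoth

/-!
Elements of orders five and seven are self-centralizing.
-/

set_option autoImplicit false
set_option linter.unusedSectionVars false
set_option linter.style.haveILetI false
set_option maxRecDepth 4000

namespace Cfsg.Agent.Lib.M22Order33

open scoped ComplexConjugate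
open Cfsg Cfsg.Agent.Lib Finset
open Cfsg.Agent.Lib.BrauerReynolds Cfsg.Agent.Lib.BrauerTuan Cfsg.Agent.Lib.DefectOne

universe u

variable {G : Type u} [Group G] [Fintype G] [IsSimpleGroup G] [Fact (Nat.Prime 11)]
variable {p : ℕ} [Fact p.Prime] {D : Setting p G}

/-- An option that fits gives its data. -/
theorem exists_optData (h : Nat.card G = 443520) (b : Base G) {o : Check.Opt} {ps : List Check.Pat}
    (hps : Check.patsAll o = ps) (hbad : o.bad = Check.small p) (hodd : p ≠ 2)
    (hN : ¬ p * p ∣ Nat.card G) (D : Setting p G) (hc : 2 ∣ Nat.card D.S.V)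
    (hfit : Check.fits o p (Nat.card D.S.V) D.e (1 + D.n * p) = true) :
    Nonempty (OptData (p := p) b o ps) := by
  obtain ⟨K⟩ := exists_blk D
  simp only [Check.fits, Bool.and_eq_true, beq_iff_eq] at hfit
  obtain ⟨⟨⟨⟨hp, he⟩, ht⟩, hM⟩, hcov⟩ := hfit
  have ht' : o.t = D.t := by
    rw [← ht, ← D.het, Nat.mul_div_cancel_left _ (by have := D.two_le_e; omega)]
  have hne : Nat.card D.S.V ≠ 1 := by omega
  obtain ⟨Λ, hΛ⟩ := b.exists_listing h K hodd hp.symm he.symm ht' (Nat.dvd_of_mod_eq_zero hM)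
    (fun χ hχ => by
      have h1 := not_mem_badOf h hodd K hχ
      rwa [Check.badOf, if_neg hne, if_pos (Nat.mod_eq_zero_of_dvd hc), ← hbad] at h1)
  obtain ⟨v, hv, hv2, hCs, hle⟩ :=
    exists_fixed_involution h hN hc (fun y hy => b.centralizer_card h hy) hcov
  exact ⟨⟨D, hodd, hp.symm, he.symm, ht', K, Λ, hps ▸ hΛ, v, hv, hv2, hCs, hle⟩⟩

/-- The possibilities at seven. -/
inductive Seven [Fact (Nat.Prime 7)] (b : Base G) : Prop
  | self (S : SelfData (p := 7) b Check.self7 Check.listSelf7) : Seven b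
  | a (O : OptData (p := 7) b Check.opt7a Check.list7a) : Seven b
  | c (O : OptData (p := 7) b Check.opt7b Check.list7b) : Seven b

/-- The possibilities at five. -/
inductive Five [Fact (Nat.Prime 5)] (b : Base G) : Prop
  | self (S : SelfData (p := 5) b Check.self5 Check.listSelf5) : Five b
  | a (O : OptData (p := 5) b Check.opt5a Check.list5a) : Five b
  | b' (O : OptData (p := 5) b Check.opt5b Check.list5b) : Five b
  | c (O : OptData (p := 5) b Check.opt5c Check.list5c) : Five b

theorem exists_seven [Fact (Nat.Prime 7)] (h : Nat.card G = 443520) (b : Base G) :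
    Seven b ∧ ∃ D : Setting 7 G, ¬ 5 ∣ Nat.card D.S.V := by
  classical
  have hN : ¬ 7 * 7 ∣ Nat.card G := by rw [h]; norm_num
  obtain ⟨D, hn, heq⟩ := exists_setting_of (p := 7) h (N := 63360)
    ⟨by norm_num, by norm_num, by norm_num⟩
  obtain ⟨K⟩ := exists_blk D
  have he2 := D.two_le_e
  have het := D.het
  have hm : 1 + D.n * 7 ∣ 1152 * 55 :=
    Dvd.intro_left (Nat.card D.S.V * D.e) (by rw [mul_assoc, heq])
  obtain ⟨x, hx, y, hy, hxy⟩ := split_sylow hm (by norm_num) (by norm_num)
  have hall := Check.shape7_all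
  rw [List.all_eq_true] at hall
  have h1 := hall x hx
  rw [List.all_eq_true] at h1
  have h2 := h1 y hy
  rw [List.all_eq_true] at h2
  have he : D.e ∈ [2, 3, 6] := by
    have hd : D.e ∣ 6 := Dvd.intro _ het
    have hle := Nat.le_of_dvd (by norm_num) hd
    interval_cases h : D.e <;> revert hd <;> decide
  have h3 := h2 D.e he
  rw [hxy] at h3
  set c := Nat.card D.S.V with hc
  have hce : 63360 / ((1 + D.n * 7) * D.e) = c := by
    rw [← heq, mul_comm (1 + D.n * 7) D.e, Nat.mul_div_cancel _ (by positivity)]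
  have hdiv : 63360 % ((1 + D.n * 7) * D.e) = 0 :=
    Nat.mod_eq_zero_of_dvd (Dvd.intro_left c (by rw [← heq, mul_comm (1 + D.n * 7) D.e]))
  rw [hce, hdiv] at h3
  have hmod : (1 + D.n * 7) % 7 = 1 := by omega
  have hne : 1 + D.n * 7 ≠ 1 := by omega
  simp only [hmod, bne_iff_ne.mpr hne, beq_self_eq_true, Bool.and_self, Bool.not_true,
    Bool.false_or] at h3
  unfold Check.shape7 at h3
  simp only [Bool.or_eq_true, Bool.and_eq_true, beq_iff_eq, bne_iff_ne, ne_eq] at h3
  rcases h3 with ((⟨hc1, he3⟩ | h11) | ⟨-, hno⟩) | ⟨⟨hcev, hc5⟩, hfit⟩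
  · have hV : D.S.V = ⊥ := Subgroup.card_eq_one.mp hc1
    rw [hc1, he3, one_mul] at heq
    rw [he3] at het
    have ht2 : D.t = 2 := by omega
    obtain ⟨Λ, hΛ⟩ := b.exists_listing h K (o := Check.self7) (by norm_num) rfl he3.symm ht2.symm
      (by rw [show Check.self7.M = 63360 from rfl, ← heq, he3]) (fun _ _ => List.not_mem_nil)
    refine ⟨Seven.self ⟨D, hV, rfl, he3.symm, ht2.symm, Or.inl ⟨rfl, he3⟩, K, Λ,
      Check.patsAll_self7 ▸ hΛ⟩, D, ?_⟩
    rw [← hc, hc1]
    norm_num
  · exact absurd (Nat.dvd_of_mod_eq_zero h11) (b.not_dvd_complement h (by norm_num) D)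
  · rw [not_noPats h (by norm_num) K (pool := fun l => l.filter Check.ok11) (fun l d hd ⟨χ, hχ, hd'⟩ =>
      List.mem_filter.mpr ⟨hd, hd' ▸ b.ok11_degOf (K.ne_trivial (mem_union_left _ hχ))⟩)] at hno
    exact absurd hno Bool.false_ne_true
  · refine ⟨?_, D, fun h5 => hc5 (Nat.mod_eq_zero_of_dvd h5)⟩
    rcases hfit with hfit | hfit
    · obtain ⟨O⟩ := exists_optData h b Check.patsAll_opt7a rfl (by norm_num) hN D
        (Nat.dvd_of_mod_eq_zero hcev) hfit
      exact Seven.a O
    · obtain ⟨O⟩ := exists_optData h b Check.patsAll_opt7b rfl (by norm_num) hN D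
        (Nat.dvd_of_mod_eq_zero hcev) hfit
      exact Seven.c O

theorem exists_five [Fact (Nat.Prime 5)] [Fact (Nat.Prime 7)] (h : Nat.card G = 443520)
    (b : Base G) : Five b := by
  classical
  have hN : ¬ 5 * 5 ∣ Nat.card G := by rw [h]; norm_num
  obtain ⟨-, D7, hD7⟩ := exists_seven h b
  obtain ⟨D, hn, heq⟩ := exists_setting_of (p := 5) h (N := 88704)
    ⟨by norm_num, by norm_num, by norm_num⟩
  obtain ⟨K⟩ := exists_blk D
  have he2 := D.two_le_e
  have het := D.het
  have hm : 1 + D.n * 5 ∣ 1152 * 77 :=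
    Dvd.intro_left (Nat.card D.S.V * D.e) (by rw [mul_assoc, heq])
  obtain ⟨x, hx, y, hy, hxy⟩ := split_sylow hm (by norm_num) (by norm_num)
  have hall := Check.shape5_all
  rw [List.all_eq_true] at hall
  have h1 := hall x hx
  rw [List.all_eq_true] at h1
  have h2 := h1 y hy
  rw [List.all_eq_true] at h2
  have he : D.e ∈ [2, 4] := by
    have hd : D.e ∣ 4 := Dvd.intro _ het
    have hle := Nat.le_of_dvd (by norm_num) hd
    interval_cases h : D.e <;> revert hd <;> decide
  have h3 := h2 D.e he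
  rw [hxy] at h3
  set c := Nat.card D.S.V with hc
  have hce : 88704 / ((1 + D.n * 5) * D.e) = c := by
    rw [← heq, mul_comm (1 + D.n * 5) D.e, Nat.mul_div_cancel _ (by positivity)]
  have hdiv : 88704 % ((1 + D.n * 5) * D.e) = 0 :=
    Nat.mod_eq_zero_of_dvd (Dvd.intro_left c (by rw [← heq, mul_comm (1 + D.n * 5) D.e]))
  rw [hce, hdiv] at h3
  have hmod : (1 + D.n * 5) % 5 = 1 := by omega
  have hne : 1 + D.n * 5 ≠ 1 := by omega
  simp only [hmod, bne_iff_ne.mpr hne, beq_self_eq_true, Bool.and_self, Bool.not_true,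
    Bool.false_or] at h3
  unfold Check.shape5 at h3
  simp only [Bool.or_eq_true, Bool.and_eq_true, beq_iff_eq, bne_iff_ne, ne_eq] at h3
  rcases h3 with (((⟨hc1, he4⟩ | h11) | h7) | ⟨-, hno⟩) | ⟨hcev, hfit⟩
  · have hV : D.S.V = ⊥ := Subgroup.card_eq_one.mp hc1
    rw [hc1, he4, one_mul] at heq
    rw [he4] at het
    have ht1 : D.t = 1 := by omega
    obtain ⟨Λ, hΛ⟩ := b.exists_listing h K (o := Check.self5) (by norm_num) rfl he4.symm ht1.symm
      (by rw [show Check.self5.M = 88704 from rfl, ← heq, he4]) (fun _ _ => List.not_mem_nil)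
    exact Five.self ⟨D, hV, rfl, he4.symm, ht1.symm, Or.inr ⟨rfl, he4, ht1⟩, K, Λ,
      Check.patsAll_self5 ▸ hΛ⟩
  · exact absurd (Nat.dvd_of_mod_eq_zero h11) (b.not_dvd_complement h (by norm_num) D)
  · exact absurd (dvd_complement D D7 (by rw [h]; norm_num) (by norm_num)
      (Nat.dvd_of_mod_eq_zero h7)) hD7
  · rw [not_noPats h (by norm_num) K (pool := fun l => l.filter Check.ok11) (fun l d hd ⟨χ, hχ, hd'⟩ =>
      List.mem_filter.mpr ⟨hd, hd' ▸ b.ok11_degOf (K.ne_trivial (mem_union_left _ hχ))⟩)] at hno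
    exact absurd hno Bool.false_ne_true
  · rcases hfit with (hfit | hfit) | hfit
    · obtain ⟨O⟩ := exists_optData h b Check.patsAll_opt5a rfl (by norm_num) hN D
        (Nat.dvd_of_mod_eq_zero hcev) hfit
      exact Five.a O
    · obtain ⟨O⟩ := exists_optData h b Check.patsAll_opt5b rfl (by norm_num) hN D
        (Nat.dvd_of_mod_eq_zero hcev) hfit
      exact Five.b' O
    · obtain ⟨O⟩ := exists_optData h b Check.patsAll_opt5c rfl (by norm_num) hN D
        (Nat.dvd_of_mod_eq_zero hcev) hfit
      exact Five.c O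

theorem Base.list_spec (b : Base G) {f : Check.Pat → Bool} (hall : Check.list11.all f = true) :
    f b.Λ.pat = true := by
  rw [List.all_eq_true] at hall
  exact hall _ b.pat_mem

/-- Both are self-centralizing. -/
theorem exists_selfData [Fact (Nat.Prime 5)] [Fact (Nat.Prime 7)] (h : Nat.card G = 443520)
    (b : Base G) :
    Nonempty (SelfData (p := 7) b Check.self7 Check.listSelf7) ∧
      Nonempty (SelfData (p := 5) b Check.self5 Check.listSelf5) := by
  classical
  have k7a := Check.kill_7a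
  have k7b := Check.kill_7b
  have k5a := Check.kill_5a
  have k5b := Check.kill_5b
  have k5c := Check.kill_5c
  have bad5 : ∀ (S : SelfData (p := 5) b Check.self5 Check.listSelf5) (t : G),
      Check.badTwo Check.self5.p (cord t) (S.Λ.row t) = false := fun S t => by
    simp [Check.badTwo, Check.self5]
  have bad7 : ∀ (S : SelfData (p := 7) b Check.self7 Check.listSelf7) (t : G), orderOf t = 2 →
      Check.badTwo Check.self7.p (cord t) (S.Λ.row t) = false := fun S t ht =>
    not_badTwo h S.K S.V_bot (by have := S.e_eq; simpa [Check.self7] using this.symm) S.Λ ht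
  have both : ∀ {o o' : Check.Opt} {ps ps' : List Check.Pat}
      (_ : OptData (p := 7) b o ps) (_ : OptData (p := 5) b o' ps'),
      (Check.noRow o ps b.Λ.pat = true ∨ Check.noRow o' ps' b.Λ.pat = true) → False := by
    intro o o' ps ps' O O' hor
    rcases hor with h' | h'
    · rw [O.noRow_false h] at h'; exact Bool.false_ne_true h'
    · rw [O'.noRow_false h] at h'; exact Bool.false_ne_true h'
  have hb' := Base.list_spec b (f := fun T =>
    (Check.noRow Check.opt7a Check.list7a T && Check.noRow Check.opt7b Check.list7b T) ||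
      (Check.noRow Check.opt5a Check.list5a T && Check.noRow Check.opt5b Check.list5b T &&
        Check.noRow Check.opt5c Check.list5c T)) Check.kill_both
  simp only [Bool.or_eq_true, Bool.and_eq_true] at hb'
  cases (exists_seven h b).1 with
  | self S7 =>
    cases exists_five h b with
    | self S5 => exact ⟨⟨S7⟩, ⟨S5⟩⟩
    | a O => exact (mixed_false h S7 (by norm_num) O (bad7 S7 O.v O.v_two) k5a).elim
    | b' O => exact (mixed_false h S7 (by norm_num) O (bad7 S7 O.v O.v_two) k5b).elim
    | c O => exact (mixed_false h S7 (by norm_num) O (bad7 S7 O.v O.v_two) k5c).elim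
  | a O7 =>
    cases exists_five h b with
    | self S5 => exact (mixed_false h S5 (by norm_num) O7 (bad5 S5 O7.v) k7a).elim
    | a O => exact (both O7 O (hb'.imp (fun hh => hh.1) fun hh => hh.1.1)).elim
    | b' O => exact (both O7 O (hb'.imp (fun hh => hh.1) fun hh => hh.1.2)).elim
    | c O => exact (both O7 O (hb'.imp (fun hh => hh.1) fun hh => hh.2)).elim
  | c O7 =>
    cases exists_five h b with
    | self S5 => exact (mixed_false h S5 (by norm_num) O7 (bad5 S5 O7.v) k7b).elim
    | a O => exact (both O7 O (hb'.imp (fun hh => hh.2) fun hh => hh.1.1)).elim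
    | b' O => exact (both O7 O (hb'.imp (fun hh => hh.2) fun hh => hh.1.2)).elim
    | c O => exact (both O7 O (hb'.imp (fun hh => hh.2) fun hh => hh.2)).elim

end Cfsg.Agent.Lib.M22Order33
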