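import Cfsg.Agent.Lib.M22Order33.Three
import Cfsg.Agent.Lib.M22Nse57.Hist
import Cfsg.Agent.Lib.SmallGroups.PrimeSylow
import Cfsg.Agent.Lib.Chars.Completeness

/-!
The twelve classes of a simple group of order 443520.
-/

set_option autoImplicit false
set_option linter.unusedSectionVars false
set_option linter.style.haveILetI false

namespace Cfsg.Agent.Lib.M22Order33

open Cfsg Cfsg.Agent.Lib Finset
open Cfsg.Agent.Lib.BrauerReynolds Cfsg.Agent.Lib.BrauerTuan Cfsg.Agent.Lib.DefectOne
open Cfsg.Agent.Lib.M22Nse57 (Hist.cnt)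

universe u

variable {G : Type u} [Group G] [Fintype G] [IsSimpleGroup G]

/-- A member of a class. -/
noncomputable def rep (c : ConjClasses G) : G := (ConjClasses.exists_rep c).choose

theorem mk_rep (c : ConjClasses G) : ConjClasses.mk (rep c) = c :=
  (ConjClasses.exists_rep c).choose_spec

theorem orderOf_conj_eq {g k : G} (h : IsConj g k) : orderOf g = orderOf k := by
  obtain ⟨c, rfl⟩ := isConj_iff.mp h
  rw [← MulAut.conj_apply, MulEquiv.orderOf_eq]

theorem cls_eq {g k : G} (h : IsConj g k) : cls g = cls k := by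
  classical
  ext a
  simp only [cls, mem_filter, mem_univ, true_and]
  exact ⟨fun ha => h.symm.trans ha, fun ha => h.trans ha⟩

theorem cord_conj_eq {g k : G} (h : IsConj g k) : cord g = cord k := by
  have h1 := card_cls g
  have h2 := card_cls k
  rw [cls_eq h] at h1
  have hpos : 0 < (cls k).card := by
    rcases Nat.eq_zero_or_pos (cls k).card with h0 | h0
    · rw [h0, zero_mul] at h2
      exact absurd h2.symm Nat.card_pos.ne'
    · exact h0
  exact Nat.eq_of_mul_eq_mul_left hpos (h1.trans h2.symm)

theorem rep_mk (g : G) : IsConj (rep (ConjClasses.mk g)) g :=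
  ConjClasses.mk_eq_mk_iff_isConj.mp (mk_rep _)

/-- The order of the members of a class. -/
noncomputable def ord (c : ConjClasses G) : ℕ := orderOf (rep c)

theorem ord_mk (g : G) : ord (ConjClasses.mk g) = orderOf g := orderOf_conj_eq (rep_mk g)

/-- The weight of a class: its size divided by 385. -/
noncomputable def wt (c : ConjClasses G) : ℕ := 1152 / cord (rep c)

theorem wt_mk (g : G) : wt (ConjClasses.mk g) = 1152 / cord g := by
  rw [wt, cord_conj_eq (rep_mk g)]

theorem orderOf_dvd_cord (g : G) : orderOf g ∣ cord g :=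
  Subgroup.orderOf_dvd_natCard _ (Subgroup.mem_centralizer_singleton_iff.mpr rfl)

theorem cord_dvd_pow (g : G) (k : ℕ) : cord g ∣ cord (g ^ k) := by
  refine Subgroup.card_dvd_of_le fun a ha => ?_
  rw [Subgroup.mem_centralizer_singleton_iff] at ha ⊢
  exact (show Commute a g from ha).pow_right k

theorem exists_orderOf_mul {g : G} {r : ℕ} (hr : r.Prime) (hd : r ∣ cord g)
    (hco : (orderOf g).Coprime r) : ∃ z : G, orderOf z = orderOf g * r := by
  haveI : Fact r.Prime := ⟨hr⟩
  obtain ⟨⟨y, hyC⟩, hy⟩ := exists_prime_orderOf_dvd_card' r hd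
  rw [Subgroup.orderOf_mk] at hy
  have hc : Commute g y := (Subgroup.mem_centralizer_singleton_iff.mp hyC).symm
  exact ⟨g * y, by rw [hc.orderOf_mul_eq_mul_orderOf_of_coprime (by rw [hy]; exact hco), hy]⟩

theorem exists_orderOf_dvd (g : G) {k : ℕ} (hk : k ∣ orderOf g) : ∃ z : G, orderOf z = k := by
  refine ⟨g ^ (orderOf g / k), ?_⟩
  exact orderOf_pow_orderOf_div (orderOf_pos g).ne' hk

variable [Fintype (ConjClasses G)]

open Classical in
/-- The classes of elements of a given order. -/
noncomputable def ofOrd (G : Type u) [Group G] [Fintype (ConjClasses G)] (n : ℕ) :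
    Finset (ConjClasses G) := univ.filter fun c => ord c = n

open Classical in
theorem mk_mem_ofOrd {g : G} {n : ℕ} (hg : orderOf g = n) : ConjClasses.mk g ∈ ofOrd G n :=
  mem_filter.mpr ⟨mem_univ _, (ord_mk g).trans hg⟩

theorem cnt_eq_sum (n : ℕ) :
    Hist.cnt G n = ∑ c ∈ ofOrd G n, (cls (rep c)).card := by
  classical
  rw [M22Nse57.Hist.cnt_eq_card]
  rw [card_eq_sum_card_fiberwise (f := ConjClasses.mk) (t := ofOrd G n)
    (fun g hg => mk_mem_ofOrd (mem_filter.mp hg).2)]
  refine sum_congr rfl fun c hc => congrArg Finset.card ?_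
  have hc' : orderOf (rep c) = n := (mem_filter.mp hc).2
  ext g
  simp only [cls, mem_filter, mem_univ, true_and]
  constructor
  · rintro ⟨-, hg⟩
    exact ConjClasses.mk_eq_mk_iff_isConj.mp ((mk_rep c).trans hg.symm)
  · intro hg
    exact ⟨(orderOf_conj_eq hg).symm.trans hc',
      (ConjClasses.mk_eq_mk_iff_isConj.mpr hg.symm).trans (mk_rep c)⟩

theorem sum_cls_card : ∑ c : ConjClasses G, (cls (rep c)).card = Nat.card G := by
  classical
  rw [Nat.card_eq_fintype_card, ← card_univ,
    card_eq_sum_card_fiberwise (s := (univ : Finset G)) (f := ConjClasses.mk) (t := univ)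
      fun _ _ => mem_coe.mpr (mem_univ _)]
  refine sum_congr rfl fun c _ => congrArg Finset.card ?_
  ext g
  simp only [cls, mem_filter, mem_univ, true_and]
  constructor
  · intro hg
    exact (ConjClasses.mk_eq_mk_iff_isConj.mpr hg.symm).trans (mk_rep c)
  · intro hg
    exact ConjClasses.mk_eq_mk_iff_isConj.mp ((mk_rep c).trans hg.symm)

/-- Number of classes of a given order times the group order. -/
theorem ofOrd_mul {n C : ℕ} (hC : ∀ g : G, orderOf g = n → cord g = C) :
    (ofOrd G n).card * Nat.card G = Hist.cnt G n * C := by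
  classical
  rw [cnt_eq_sum, sum_mul, ← smul_eq_mul, ← sum_const]
  refine sum_congr rfl fun c hc => ?_
  rw [← card_cls (rep c)]
  show _ = _ * C
  rw [← hC _ (mem_filter.mp hc).2]

theorem cnt_prime_of_setting {p : ℕ} [hp : Fact p.Prime] (D : Setting p G) (hV : D.S.V = ⊥)
    (hN : ¬ p * p ∣ Nat.card G) :
    D.e * Hist.cnt G p * p = Nat.card G * (p - 1) := by
  obtain ⟨P⟩ := (inferInstance : Nonempty (Sylow p G))
  rw [Hist.cnt, SmallGroups.card_orderOf_eq_prime P (sylow_card D hN P), D.card_sylow, D.card_group,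
    hV, Subgroup.card_bot]
  ring

variable [Fact (Nat.Prime 11)] [Fact (Nat.Prime 7)] [Fact (Nat.Prime 5)]

namespace Blocks3

variable (B : Blocks3 G)
include B

theorem cnt_five (h : Nat.card G = 443520) : Hist.cnt G 5 = 88704 := by
  have h1 := cnt_prime_of_setting B.S5.D B.S5.V_bot (by rw [h]; norm_num)
  rw [h, show B.S5.D.e = 4 from B.S5.e_eq.symm] at h1
  omega

theorem cnt_seven (h : Nat.card G = 443520) : Hist.cnt G 7 = 126720 := by
  have h1 := cnt_prime_of_setting B.S7.D B.S7.V_bot (by rw [h]; norm_num)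
  rw [h, show B.S7.D.e = 3 from B.S7.e_eq.symm] at h1
  omega

theorem cnt_eleven (h : Nat.card G = 443520) : Hist.cnt G 11 = 80640 := by
  have h1 := cnt_prime_of_setting B.b.D B.b.V_bot (by rw [h]; norm_num)
  rw [h, B.b.e_eq] at h1
  omega

theorem card_ofOrd_two (h : Nat.card G = 443520) : (ofOrd G 2).card = 1 := by
  classical
  obtain ⟨t, ht⟩ := B.exists_involution' h
  refine card_eq_one.mpr ⟨ConjClasses.mk t, eq_singleton_iff_unique_mem.mpr ⟨mk_mem_ofOrd ht, ?_⟩⟩
  intro c hc
  rw [← mk_rep c]
  exact ConjClasses.mk_eq_mk_iff_isConj.mpr (B.isConj_involutions h (mem_filter.mp hc).2 ht)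

theorem cnt_two (h : Nat.card G = 443520) : Hist.cnt G 2 = 1155 := by
  have h1 := ofOrd_mul (G := G) (n := 2) (C := 384) fun g hg => (B.row h hg).1
  rw [B.card_ofOrd_two h, h] at h1
  omega

open Classical in
/-- The classes of elements of order different from 1, 2, 5, 7, 11. -/
noncomputable def rest (_B : Blocks3 G) : Finset (ConjClasses G) :=
  univ.filter fun c => ord c ∉ ({1, 2, 5, 7, 11} : Finset ℕ)

theorem rest_facts (h : Nat.card G = 443520) :
    (B.rest).card = 5 ∧ ∑ c ∈ B.rest, (cls (rep c)).card = 146300 := by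
  classical
  have k1 : (ofOrd G 1).card = 1 := by
    have h1 := ofOrd_mul (G := G) (n := 1) (C := Nat.card G) fun g hg => by
      obtain rfl := orderOf_eq_one_iff.mp hg
      rw [cord, Nat.card_congr (Equiv.subtypeUnivEquiv fun a =>
        Subgroup.mem_centralizer_singleton_iff.mpr (by rw [mul_one, one_mul]))]
    rw [M22Nse57.Hist.cnt_one] at h1
    exact Nat.eq_of_mul_eq_mul_right Nat.card_pos h1
  have k5 := ofOrd_mul (G := G) (n := 5) (C := 5) fun g hg => B.centralizer_five h hg
  have k7 := ofOrd_mul (G := G) (n := 7) (C := 7) fun g hg => B.centralizer_seven h hg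
  have k11 := ofOrd_mul (G := G) (n := 11) (C := 11) fun g hg => B.b.centralizer_card h hg
  rw [B.cnt_five h, h] at k5
  rw [B.cnt_seven h, h] at k7
  rw [B.cnt_eleven h, h] at k11
  have hcard : Fintype.card (ConjClasses G) = 12 := by
    have h1 := Chars.card_irrCharacter (G := G)
    rw [Nat.card_eq_fintype_card, Nat.card_eq_fintype_card] at h1
    rw [← h1, ← card_univ, Finset.card_def, ← Multiset.card_map degOf, B.degs h, Multiset.coe_card]
    rfl
  set K : Finset ℕ := {1, 2, 5, 7, 11} with hK
  have hfib : ∀ n ∈ K, (univ.filter fun c : ConjClasses G => ord c ∈ K).filter (fun c => ord c = n) =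
      ofOrd G n := by
    intro n hn
    ext c
    simp only [ofOrd, mem_filter, mem_univ, true_and]
    exact ⟨fun h' => h'.2, fun h' => ⟨h' ▸ hn, h'⟩⟩
  have hmaps : Set.MapsTo ord (((univ : Finset (ConjClasses G)).filter fun c => ord c ∈ K : Finset (ConjClasses G)) : Set (ConjClasses G)) (↑K : Set ℕ) :=
    by intro c hc; simp only [coe_filter, Set.mem_setOf_eq, mem_univ, true_and] at hc; exact hc
  have c1 := card_eq_sum_card_fiberwise hmaps
  rw [sum_congr rfl fun n hn => by rw [hfib n hn]] at c1
  have c2 := sum_fiberwise_of_maps_to hmaps fun c => (cls (rep c)).card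
  rw [sum_congr rfl fun n hn => by rw [hfib n hn, ← cnt_eq_sum]] at c2
  have e1 := card_filter_add_card_filter_not (s := (univ : Finset (ConjClasses G))) (fun c => ord c ∈ K)
  have e2 := sum_filter_add_sum_filter_not (univ : Finset (ConjClasses G)) (fun c => ord c ∈ K)
    (fun c => (cls (rep c)).card)
  rw [sum_cls_card, h, ← c2] at e2
  rw [c1, card_univ, hcard] at e1
  simp [hK, M22Nse57.Hist.cnt_one, k1, B.card_ofOrd_two h, B.cnt_two h, B.cnt_five h, B.cnt_seven h,
    B.cnt_eleven h] at e1 e2
  constructor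
  · simp only [rest, ← hK]
    simp [hK]
    omega
  · simp only [rest, ← hK]
    simp [hK]
    omega

end Blocks3

end Cfsg.Agent.Lib.M22Order33
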