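import Cfsg.Agent.Lib.M22Order33.Local

/-!
Elements of order eleven are self-centralizing.
-/

set_option autoImplicit false
set_option linter.unusedSectionVars false
set_option linter.style.haveILetI false

namespace Cfsg.Agent.Lib.M22Order33

open scoped ComplexConjugate
open Cfsg Cfsg.Agent.Lib Finset Subgroup
open Cfsg.Agent.Lib.BrauerReynolds Cfsg.Agent.Lib.BrauerTuan Cfsg.Agent.Lib.DefectOne

universe u

variable {G : Type u} [Group G] [Fintype G] [IsSimpleGroup G]

theorem index_centralizer_ge (h : Nat.card G = 443520) {g : G} (hg : g ≠ 1) :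
    Nat.card (centralizer ({g} : Set G)) ≤ 40320 := by
  set H := centralizer ({g} : Set G)
  have h1 := SmallGroups.two_mul_card_dvd_factorial (not_comm h)
    (SmallGroups.centralizer_ne_top (not_comm h) hg)
  rw [h] at h1
  have h2 := H.card_mul_index
  rw [h] at h2
  by_contra hlt
  have h3 : H.index ≤ 10 := by
    by_contra h4
    have := Nat.mul_le_mul (show 40321 ≤ Nat.card H by omega) (show 11 ≤ H.index by omega)
    omega
  have h4 := h1.trans (Nat.factorial_dvd_factorial h3)
  norm_num [Nat.factorial] at h4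

theorem split_sylow {m a b : ℕ} (h : m ∣ a * b) (ha : 0 < a) (hb : 0 < b) :
    ∃ x ∈ Check.divList a, ∃ y ∈ Check.divList b, x * y = m := by
  obtain ⟨x, y, hx, hy, hxy⟩ := (Nat.dvd_mul).mp h
  exact ⟨x, Check.mem_divList ha hx, y, Check.mem_divList hb hy, hxy⟩

/-- The data at eleven. -/
structure Base (G : Type u) [Group G] [Fintype G] [IsSimpleGroup G] [Fact (Nat.Prime 11)] where
  D : Setting 11 G
  V_bot : D.S.V = ⊥
  e_eq : D.e = 5
  t_eq : D.t = 2
  sylow : D.n = 733
  K : Blk D
  Λ : Blk.Listing K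
  pat_mem : Λ.pat ∈ Check.list11

variable [Fact (Nat.Prime 11)]

theorem exists_base (h : Nat.card G = 443520) : Nonempty (Base G) := by
  classical
  obtain ⟨D, hn, heq⟩ := exists_setting_of (p := 11) h (N := 40320)
    ⟨by norm_num, by norm_num, by norm_num⟩
  obtain ⟨K⟩ := exists_blk D
  set c := Nat.card D.S.V with hc
  have he2 := D.two_le_e
  have het := D.het
  have hm : 1 + D.n * 11 ∣ 1152 * 35 :=
    Dvd.intro_left (c * D.e) (by rw [mul_assoc, heq])
  obtain ⟨x, hx, y, hy, hxy⟩ := split_sylow hm (by norm_num) (by norm_num)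
  have hall := Check.shape11_all
  rw [List.all_eq_true] at hall
  have h1 := hall x hx
  rw [List.all_eq_true] at h1
  have h2 := h1 y hy
  rw [List.all_eq_true] at h2
  have he : D.e ∈ [2, 5, 10] := by
    have hd : D.e ∣ 10 := Dvd.intro _ het
    have hle := Nat.le_of_dvd (by norm_num) hd
    interval_cases h : D.e <;> revert hd <;> decide
  have h3 := h2 D.e he
  rw [hxy] at h3
  have hce : 40320 / ((1 + D.n * 11) * D.e) = c := by
    rw [← heq, mul_comm (1 + D.n * 11) D.e, Nat.mul_div_cancel _ (by positivity)]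
  have hdiv : 40320 % ((1 + D.n * 11) * D.e) = 0 :=
    Nat.mod_eq_zero_of_dvd (Dvd.intro_left c (by rw [← heq, mul_comm (1 + D.n * 11) D.e]))
  rw [hce, hdiv] at h3
  have hmod : (1 + D.n * 11) % 11 = 1 := by omega
  have hne : 1 + D.n * 11 ≠ 1 := by omega
  simp only [hmod, bne_iff_ne.mpr hne, beq_self_eq_true, Bool.and_self, Bool.not_true,
    Bool.false_or] at h3
  unfold Check.shape11 at h3
  simp only [Bool.or_eq_true, Bool.and_eq_true, beq_iff_eq, bne_iff_ne, ne_eq] at h3
  have ht : (11 - 1) / D.e = D.t := by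
    rw [← het, Nat.mul_div_cancel_left _ (by omega)]
  rcases h3 with ⟨hc1, he5⟩ | ⟨hc1, hno | ⟨⟨hcev, -⟩, hrows⟩⟩
  · have hV : D.S.V = ⊥ := Subgroup.card_eq_one.mp hc1
    rw [hc1, he5, one_mul] at heq
    have ht2 : D.t = 2 := by rw [he5] at het; omega
    have hn' : D.n = 733 := by omega
    obtain ⟨Λ, hΛ⟩ := K.exists_listing h (by norm_num) (M := 40320) (bad := [])
      (pool := Check.poolA 11 40320 []) (e := 5) (t := 2) he5.symm ht2.symm
      (by rw [he5, hn']) (fun _ _ => List.not_mem_nil) (fun d hd _ => hd)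
    exact ⟨⟨D, hV, he5, ht2, hn', K, Λ, by rw [← Check.pats11_eq]; exact hΛ⟩⟩
  · rw [not_noPats h (by norm_num) K (pool := id) (fun l d hd _ => hd)] at hno
    exact absurd hno Bool.false_ne_true
  · exfalso
    obtain ⟨v, hv, hv2⟩ := exists_involution D (Nat.dvd_of_mod_eq_zero hcev)
    set C := Nat.card (centralizer ({v} : Set G)) with hC
    have hC22 : 22 ∣ C := by
      have h1 : D.S.x ∈ centralizer ({v} : Set G) :=
        mem_centralizer_singleton_iff.mpr (D.S.commute v hv).eq
      have h2 := Subgroup.orderOf_dvd_natCard _ h1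
      rw [D.S.order_x] at h2
      have h3 := Subgroup.orderOf_dvd_natCard _
        (mem_centralizer_singleton_iff.mpr rfl : v ∈ centralizer ({v} : Set G))
      rw [hv2] at h3
      exact Nat.Coprime.mul_dvd_of_dvd_of_dvd (by norm_num) h2 h3
    have hCle := index_centralizer_ge h (ne_one_of_orderOf_two hv2)
    have hCmem : C ∈ Check.cs22 :=
      Check.mem_cs22 (h ▸ Subgroup.card_subgroup_dvd_card _) hC22 hCle
    obtain ⟨Λ, hΛ⟩ := K.exists_listing h (by norm_num) (M := D.e * (1 + D.n * 11))
      (bad := Check.badOf 11 c)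
      (pool := Check.poolA 11 (D.e * (1 + D.n * 11)) (Check.badOf 11 c)) (e := D.e) (t := D.t)
      rfl rfl dvd_rfl (fun χ hχ => not_mem_badOf h (by norm_num) K hχ) (fun d hd _ => hd)
    unfold Check.noRows11 at hrows
    rw [List.all_eq_true] at hrows
    rw [← ht] at hΛ
    have h4 := hrows _ hΛ
    rw [List.all_eq_true] at h4
    have h5 := Blk.Listing.row_spec h (by norm_num) Λ hv2 hC hCle rfl ht
      (fun χ hχ => List.mem_filter.mpr ⟨Check.mem_cand hCle (okVal_iv h
          (K.ne_trivial (mem_union_left _ hχ)) hv2), by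
        simp only [Check.congOK, beq_iff_eq]
        exact Int.emod_eq_zero_of_dvd (K.congr_iv (mem_union_left _ hχ) hv hv2)⟩)
      (fun θ hθ => by
        simp only [Bool.and_eq_true, Check.congOK, beq_iff_eq]
        exact ⟨Int.emod_eq_zero_of_dvd (K.congr_iv (mem_union_right _ hθ) hv hv2),
          okVal_iv h (K.ne_trivial (mem_union_right _ hθ)) hv2⟩)
      (h4 C hCmem)
    exact Bool.false_ne_true h5

namespace Base

variable (b : Base G)
include b

theorem not_sq (h : Nat.card G = 443520) : ¬ 11 * 11 ∣ Nat.card G := by rw [h]; norm_num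

theorem centralizer_card (h : Nat.card G = 443520) {y : G} (hy : orderOf y = 11) :
    Nat.card (centralizer ({y} : Set G)) = 11 := by
  rw [card_centralizer_of_order b.D (b.not_sq h) hy, b.V_bot, Subgroup.card_bot]

theorem not_dvd_complement (h : Nat.card G = 443520) {p : ℕ} [Fact p.Prime] (hp : p ≠ 11)
    (D : Setting p G) : ¬ 11 ∣ Nat.card D.S.V := by
  intro hd
  have h1 := dvd_complement D b.D (b.not_sq h) hp hd
  rw [b.V_bot, Subgroup.card_bot, Nat.dvd_one] at h1
  exact (Fact.out : p.Prime).ne_one h1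

theorem ok11_degOf {χ : IrrCharacter G} (hne : χ ≠ Chars.trivialIrr G) :
    Check.ok11 (degOf χ) = true := by
  simp only [Check.ok11, List.contains_iff_mem, List.mem_cons, List.not_mem_nil, or_false]
  by_cases hχ : χ ∈ b.K.A ∪ b.K.B
  · rcases mem_union.mp hχ with h | h
    · rcases b.K.δ_unit χ h with h' | h'
      · right; left; exact (b.K.emod_A h).1 h'
      · right; right; left; simpa using (b.K.emod_A h).2 h'
    · rcases b.K.ε_unit with h' | h'
      · right; right; right; left; simpa [b.e_eq] using (b.K.emod_B h).1 h'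
      · right; right; right; right; simpa [b.e_eq] using (b.K.emod_B h).2 h'
  · left
    exact Nat.mod_eq_zero_of_dvd (b.K.dvd_of_notMem b.V_bot hne hχ)

end Base

end Cfsg.Agent.Lib.M22Order33
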