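import Cfsg.Agent.Lib.M22Order33.Classify
import Cfsg.Agent.Lib.M22Order33.CertOnly

/-!
One class of involutions, centralizer order 384, and the twelve degrees.
-/

set_option autoImplicit false
set_option linter.unusedSectionVars false
set_option linter.style.haveILetI false
set_option maxRecDepth 4000

namespace Cfsg.Agent.Lib.M22Order33

open scoped ComplexConjugate
open Cfsg Cfsg.Agent.Lib Finset
open Cfsg.Agent.Lib.BrauerReynolds Cfsg.Agent.Lib.BrauerTuan Cfsg.Agent.Lib.DefectOne

universe u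

/-- The value at an involution of the character of a given degree. -/
def hval : ℕ → ℤ
  | 1 => 1
  | 21 => 5
  | 45 => -3
  | 55 => 7
  | 99 => 3
  | 154 => 10
  | 210 => 2
  | 231 => 7
  | 280 => -8
  | 385 => 1
  | _ => 0

/-- The degrees. -/
def degrees : List ℕ := [1, 21, 45, 45, 55, 99, 154, 210, 231, 280, 280, 385]

variable {G : Type u} [Group G] [Fintype G] [IsSimpleGroup G]
variable [Fact (Nat.Prime 11)] [Fact (Nat.Prime 7)] [Fact (Nat.Prime 5)]

/-- The three self-centralizing blocks. -/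
structure Blocks3 (G : Type u) [Group G] [Fintype G] [IsSimpleGroup G]
    [Fact (Nat.Prime 11)] [Fact (Nat.Prime 7)] [Fact (Nat.Prime 5)] where
  b : Base G
  S7 : SelfData (p := 7) b Check.self7 Check.listSelf7
  S5 : SelfData (p := 5) b Check.self5 Check.listSelf5

theorem exists_blocks (h : Nat.card G = 443520) : Nonempty (Blocks3 G) := by
  obtain ⟨b⟩ := exists_base h
  obtain ⟨⟨S7⟩, ⟨S5⟩⟩ := exists_selfData h b
  exact ⟨⟨b, S7, S5⟩⟩

namespace Blocks3

variable (B : Blocks3 G)
include B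

theorem centralizer_seven (h : Nat.card G = 443520) {y : G} (hy : orderOf y = 7) :
    Nat.card (Subgroup.centralizer ({y} : Set G)) = 7 := by
  rw [card_centralizer_of_order B.S7.D (by rw [h]; norm_num) hy, B.S7.V_bot, Subgroup.card_bot]

theorem centralizer_five (h : Nat.card G = 443520) {y : G} (hy : orderOf y = 5) :
    Nat.card (Subgroup.centralizer ({y} : Set G)) = 5 := by
  rw [card_centralizer_of_order B.S5.D (by rw [h]; norm_num) hy, B.S5.V_bot, Subgroup.card_bot]

theorem not_dvd_centralizer (h : Nat.card G = 443520) {g : G} (hg : g ≠ 1) {r : ℕ} (hr : r.Prime)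
    (hsc : ∀ y : G, orderOf y = r → Nat.card (Subgroup.centralizer ({y} : Set G)) = r)
    (hne : orderOf g ≠ r) : ¬ r ∣ Nat.card (Subgroup.centralizer ({g} : Set G)) := by
  intro hd
  haveI : Fact r.Prime := ⟨hr⟩
  obtain ⟨⟨y, hyC⟩, hy⟩ := exists_prime_orderOf_dvd_card' r hd
  rw [Subgroup.orderOf_mk] at hy
  have h1 : g ∈ Subgroup.centralizer ({y} : Set G) :=
    Subgroup.mem_centralizer_singleton_iff.mpr (Subgroup.mem_centralizer_singleton_iff.mp hyC).symm
  have h2 := Subgroup.orderOf_dvd_natCard _ h1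
  rw [hsc y hy] at h2
  rcases (Nat.dvd_prime hr).mp h2 with h3 | h3
  · exact hg (orderOf_eq_one_iff.mp h3)
  · exact hne h3

/-- Outside the orders 5, 7, 11 the centralizers are {2, 3}-groups. -/
theorem cord_dvd (h : Nat.card G = 443520) {g : G} (hg : g ≠ 1)
    (hne : orderOf g ≠ 5 ∧ orderOf g ≠ 7 ∧ orderOf g ≠ 11) : cord g ∣ 1152 := by
  have hd : cord g ∣ 385 * 1152 := by
    rw [show 385 * 1152 = Nat.card G by rw [h]]
    exact Subgroup.card_subgroup_dvd_card _
  refine Nat.Coprime.dvd_of_dvd_mul_left ?_ hd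
  rw [show (385 : ℕ) = 5 * 7 * 11 by norm_num, Nat.coprime_mul_iff_right, Nat.coprime_mul_iff_right]
  exact ⟨⟨((show Nat.Prime 5 by norm_num).coprime_iff_not_dvd.mpr (B.not_dvd_centralizer h hg
      (by norm_num) (fun y hy => B.centralizer_five h hy) hne.1)).symm,
    ((show Nat.Prime 7 by norm_num).coprime_iff_not_dvd.mpr (B.not_dvd_centralizer h hg
      (by norm_num) (fun y hy => B.centralizer_seven h hy) hne.2.1)).symm⟩,
    ((show Nat.Prime 11 by norm_num).coprime_iff_not_dvd.mpr (B.not_dvd_centralizer h hg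
      (by norm_num) (fun y hy => B.b.centralizer_card h hy) hne.2.2)).symm⟩

theorem cord_mem_small (h : Nat.card G = 443520) {t : G} (ht : orderOf t = 2) :
    cord t ∈ Check.small2 ∧ cord t ≤ 40320 := by
  have hd : cord t ∣ 1152 := B.cord_dvd h (ne_one_of_orderOf_two ht) (by omega)
  have h2 : 2 ∣ cord t := by
    have := Subgroup.orderOf_dvd_natCard _ (Subgroup.mem_centralizer_singleton_iff.mpr rfl :
      t ∈ Subgroup.centralizer ({t} : Set G))
    rwa [ht] at this
  have hle : cord t < 1153 := Nat.lt_succ_of_le (Nat.le_of_dvd (by norm_num) hd)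
  have key : ∀ C, C < 1153 → C ∣ 1152 → 2 ∣ C → C ∈ Check.small2 := by decide +kernel
  exact ⟨key _ hle hd h2, by omega⟩

omit B in
theorem perm_table {l : List Check.Pr} (hl : l.isPerm Check.table = true) :
    (↑l : Multiset Check.Pr) = ↑Check.table := Multiset.coe_eq_coe.mpr (List.isPerm_iff.mp hl)

theorem list_spec {f : Check.Pat → Bool} (hall : Check.list11.all f = true) :
    f B.b.Λ.pat = true := by
  rw [List.all_eq_true] at hall
  exact hall _ B.b.pat_mem

/-- The row of every involution is that of the Mathieu group. -/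
theorem row (h : Nat.card G = 443520) {t : G} (ht : orderOf t = 2) :
    cord t = 384 ∧ (univ : Finset (IrrCharacter G)).val.map degOf = ↑degrees ∧
      ∀ χ : IrrCharacter G, iv χ t = hval (degOf χ) := by
  classical
  obtain ⟨hCmem, hC⟩ := B.cord_mem_small h ht
  have h1 := B.list_spec Check.only_m22
  simp only [Check.onlyM22, Bool.or_eq_true, List.isEmpty_iff] at h1
  rcases h1 with (h1 | h1) | h1
  · exact absurd (h1 ▸ B.S7.pat_mem_self) List.not_mem_nil
  · exact absurd (h1 ▸ B.S5.pat_mem_self) List.not_mem_nil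
  rw [List.all_eq_true] at h1
  have h2 := B.b.all11_spec h ht hC (h1 _ hCmem)
  rw [List.all_eq_true] at h2
  have h3 := B.S7.all_spec h ht hC (h2 _ B.S7.pat_mem_self)
  rw [List.all_eq_true] at h3
  have h4 := B.S5.all_spec h ht hC (h3 _ B.S5.pat_mem_self)
  obtain ⟨U, hone, hU, hsub1, hsub2, hsub3, hrest, hrest', hrestOK⟩ :=
    B.b.union_spec h B.S7 B.S5.K B.S5.Λ B.S5.odd (by norm_num) B.S5.t_eq ht (o' := Check.self5)
  have hsub7 : Check.subList ((Check.mem Check.self7.t (B.S7.Λ.row t)).filter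
      fun x => decide (x.1 % 5 ≠ 0)) (Check.mem Check.self5.t (B.S5.Λ.row t)) = true := by
    refine subList_of_subset (pr t)
      (S := (B.S7.K.A ∪ B.S7.K.B).filter fun χ => decide ((pr t χ).1 % 5 ≠ 0) = true) ?_
      (coe_filter_map (pr t) _ _ _ (B.S7.Λ.coe_mem B.S7.odd ht B.S7.t_eq))
      (B.S5.Λ.coe_mem B.S5.odd ht B.S5.t_eq)
    intro χ hχ
    obtain ⟨hχ1, hχ2⟩ := mem_filter.mp hχ
    have hχ3 : degOf χ % 5 ≠ 0 := of_decide_eq_true hχ2
    by_contra hc
    exact hχ3 (Nat.mod_eq_zero_of_dvd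
      (B.S5.K.dvd_of_notMem B.S5.V_bot (B.S7.K.ne_trivial hχ1) hc))
  have hsub5 : Check.subList ((Check.mem Check.self5.t (B.S5.Λ.row t)).filter
      fun x => decide (x.1 % Check.self7.p ≠ 0)) (Check.mem Check.self7.t (B.S7.Λ.row t)) = true := by
    refine subList_of_subset (pr t)
      (S := (B.S5.K.A ∪ B.S5.K.B).filter fun χ =>
        decide ((pr t χ).1 % Check.self7.p ≠ 0) = true) ?_
      (coe_filter_map (pr t) _ _ _ (B.S5.Λ.coe_mem B.S5.odd ht B.S5.t_eq))
      (B.S7.Λ.coe_mem B.S7.odd ht B.S7.t_eq)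
    intro χ hχ
    obtain ⟨hχ1, hχ2⟩ := mem_filter.mp hχ
    have hχ3 : degOf χ % 7 ≠ 0 := of_decide_eq_true hχ2
    by_contra hc
    exact hχ3 (Nat.mod_eq_zero_of_dvd
      (B.S7.K.dvd_of_notMem B.S7.V_bot (B.S5.K.ne_trivial hχ1) hc))
  simp only [Check.compat, show Check.self7.t = 2 from rfl, show Check.self5.t = 1 from rfl] at h4 hsub7 hsub5
  rw [hsub7, hsub5, hrestOK] at h4
  simp only [Bool.and_self, cond_true, Bool.and_eq_true, beq_iff_eq] at h4
  obtain ⟨hC384, hperm⟩ := h4
  rw [perm_table hperm] at hU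
  have hUdeg : U.val.map degOf = ↑[21, 45, 45, 210, 280, 280, 55, 99, 154, 231] := by
    have := congrArg (Multiset.map Prod.fst) hU.symm
    rw [Multiset.map_map, Multiset.map_coe] at this
    exact this
  have hUval : ∀ χ ∈ U, iv χ t = hval (degOf χ) := by
    intro χ hχ
    have hmem : pr t χ ∈ Check.table := by
      rw [← Multiset.mem_coe, hU]
      exact Multiset.mem_map_of_mem _ hχ
    have key : ∀ a ∈ Check.table, a.2 = hval a.1 := by decide
    exact key _ hmem
  -- the remaining characters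
  set R := (univ : Finset (IrrCharacter G)) \ insert (Chars.trivialIrr G) U with hR
  have h385 : ∀ χ ∈ R, 385 ∣ degOf χ := by
    intro χ hχ
    simp only [hR, mem_sdiff, mem_insert, not_or] at hχ
    have h77 := hrest χ hχ.2.1 hχ.2.2
    have h5 : 5 ∣ degOf χ := B.S5.K.dvd_of_notMem B.S5.V_bot hχ.2.1 fun hc => by
      rcases hrest' χ hχ.2.2 hc with h' | h'
      · exact h' (Nat.mod_eq_zero_of_dvd ((dvd_mul_left 7 11).trans h77))
      · exact h' (Nat.mod_eq_zero_of_dvd ((dvd_mul_right 11 7).trans h77))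
    have := Nat.Coprime.mul_dvd_of_dvd_of_dvd (show Nat.Coprime 5 (11 * 7) by norm_num) h5 h77
    norm_num at this
    exact this
  have hsplit : ∀ f : IrrCharacter G → ℤ,
      ∑ χ, f χ = f (Chars.trivialIrr G) + ∑ χ ∈ U, f χ + ∑ χ ∈ R, f χ := fun f => by
    rw [← sum_sdiff (subset_univ (insert (Chars.trivialIrr G) U)), sum_insert hone, hR, add_comm]
  have hUsum : ∀ f : Check.Pr → ℤ, ∑ χ ∈ U, f (pr t χ) = (Check.table.map f).sum := fun f => by
    rw [← Multiset.sum_coe, ← Multiset.map_coe, hU, Multiset.map_map, sum_eq_multiset_sum]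
    rfl
  have hRsq : ∑ χ ∈ R, (degOf χ : ℤ) * degOf χ = 385 * 385 := by
    have h5 := hsplit fun χ => (degOf χ : ℤ) * degOf χ
    have hs : ∑ χ : IrrCharacter G, (degOf χ : ℤ) * degOf χ = 443520 := by
      exact_mod_cast sum_degOf_sq h
    rw [hs, degOf_trivial, show ∑ χ ∈ U, (degOf χ : ℤ) * degOf χ = _ from hUsum fun a => (a.1 : ℤ) * a.1] at h5
    simp [Check.table] at h5
    linarith
  have hge : ∀ χ ∈ R, 385 * 385 ≤ (degOf χ : ℤ) * degOf χ := fun χ hχ => by
    have h5 : 385 ≤ degOf χ := Nat.le_of_dvd (degOf_pos χ) (h385 χ hχ)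
    have h6 : (385 : ℤ) ≤ (degOf χ : ℤ) := by exact_mod_cast h5
    exact mul_le_mul h6 h6 (by norm_num) (by positivity)
  obtain ⟨r, hr⟩ : ∃ r, R = {r} := by
    have h5 := card_nsmul_le_sum R (fun χ => (degOf χ : ℤ) * degOf χ) _ hge
    rw [hRsq, nsmul_eq_mul] at h5
    refine card_eq_one.mp ?_
    have h6 : R.card ≠ 0 := fun h0 => by
      rw [card_eq_zero] at h0
      rw [h0, sum_empty] at hRsq
      norm_num at hRsq
    omega
  rw [hr, sum_singleton] at hRsq
  have hr385 : degOf r = 385 := by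
    have h5 : degOf r * degOf r = 385 * 385 := by exact_mod_cast hRsq
    exact Nat.mul_self_inj.mp h5
  have hrv : iv r t = 1 := by
    have h5 := hsplit fun χ => (degOf χ : ℤ) * iv χ t
    rw [sum_deg_iv ht, degOf_trivial, iv_trivial ht,
      show ∑ χ ∈ U, (degOf χ : ℤ) * iv χ t = _ from hUsum fun a => (a.1 : ℤ) * a.2, hr, sum_singleton,
      hr385] at h5
    simp [Check.table] at h5
    linarith
  refine ⟨hC384, ?_, fun χ => ?_⟩
  · have hu : (univ : Finset (IrrCharacter G)) =
        disjUnion (insert (Chars.trivialIrr G) U) {r} (disjoint_singleton_right.mpr fun hc => by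
          have hm : r ∈ R := hr ▸ mem_singleton_self r
          exact (mem_sdiff.mp hm).2 hc) := by
      ext χ
      simp only [mem_univ, mem_disjUnion, true_iff]
      by_cases hc : χ ∈ insert (Chars.trivialIrr G) U
      · exact Or.inl hc
      · exact Or.inr (hr ▸ mem_sdiff.mpr ⟨mem_univ χ, hc⟩)
    rw [hu, disjUnion_val, Multiset.map_add, insert_val_of_notMem hone, Multiset.map_cons, hUdeg,
      degOf_trivial, singleton_val, Multiset.map_singleton, hr385]
    decide
  · by_cases hc : χ ∈ insert (Chars.trivialIrr G) U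
    · rcases mem_insert.mp hc with rfl | hc
      · rw [iv_trivial ht, degOf_trivial]; rfl
      · exact hUval χ hc
    · have hm : χ ∈ ({r} : Finset (IrrCharacter G)) := hr ▸ mem_sdiff.mpr ⟨mem_univ χ, hc⟩
      rw [mem_singleton] at hm
      rw [hm, hrv, hr385]
      rfl

theorem isConj_involutions (h : Nat.card G = 443520) {s t : G} (hs : orderOf s = 2)
    (ht : orderOf t = 2) : IsConj s t := by
  by_contra hne
  have h1 := sum_iv_mul hs ht hne
  rw [sum_congr rfl fun χ _ => show iv χ s * iv χ t = iv χ t * iv χ t by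
    rw [(B.row h hs).2.2 χ, (B.row h ht).2.2 χ], sum_iv_sq ht] at h1
  have := (B.row h ht).1
  simp only [cord] at this
  rw [this] at h1
  norm_num at h1

end Blocks3

end Cfsg.Agent.Lib.M22Order33
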