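import Cfsg.Agent.Lib.M22Order33.Data

/-!
Completeness of the enumerations used by the checks.
-/

set_option autoImplicit false

namespace Cfsg.Agent.Lib.M22Order33.Check

theorem mem_combs {α : Type} [DecidableEq α] : ∀ (l : List α) (M : Multiset α), (∀ a ∈ M, a ∈ l) →
    ∃ c ∈ combs l (Multiset.card M), (↑c : Multiset α) = M := by
  intro l
  induction l with
  | nil =>
    intro M hM
    have : M = 0 := Multiset.eq_zero_of_forall_notMem fun a ha => List.not_mem_nil (hM a ha)
    subst this
    exact ⟨[], by simp [combs], rfl⟩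
  | cons a l ih =>
    intro M hM
    set R := M.filter fun x => x ≠ a with hR
    have hsplit : Multiset.replicate (M.count a) a + R = M := by
      rw [← Multiset.filter_eq', hR]
      exact Multiset.filter_add_not _ M
    obtain ⟨c, hc, hcR⟩ := ih R fun x hx => by
      rw [hR, Multiset.mem_filter] at hx
      exact (List.mem_cons.mp (hM x hx.1)).resolve_left hx.2
    have hcard : Multiset.card R = Multiset.card M - M.count a := by
      conv_rhs => rw [← hsplit]
      simp [hR]
    refine ⟨List.replicate (M.count a) a ++ c, ?_, ?_⟩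
    · simp only [combs, List.mem_flatMap, List.mem_range, List.mem_map]
      exact ⟨M.count a, Nat.lt_succ_of_le (Multiset.count_le_card a M), c, hcard ▸ hc, rfl⟩
    · rw [← Multiset.coe_add, hcR, Multiset.coe_replicate, hsplit]

/-- A list of images comes from a list of the elements. -/
theorem exists_lift {α β : Type*} (f : α → β) : ∀ (l : List β) (m : Multiset α),
    (↑l : Multiset β) = m.map f → ∃ L : List α, (↑L : Multiset α) = m ∧ L.map f = l := by
  classical
  intro l
  induction l with
  | nil =>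
    intro m h
    exact ⟨[], (Multiset.map_eq_zero.mp h.symm).symm, rfl⟩
  | cons b l ih =>
    intro m h
    obtain ⟨a, ha, hab⟩ := Multiset.mem_map.mp (h ▸ List.mem_cons_self (a := b) (l := l) :
      b ∈ m.map f)
    rw [← Multiset.cons_erase ha, Multiset.map_cons, hab, ← Multiset.cons_coe,
      Multiset.cons_inj_right] at h
    obtain ⟨L, hL, hLl⟩ := ih _ h
    exact ⟨a :: L, by rw [← Multiset.cons_coe, hL, Multiset.cons_erase ha],
      by rw [List.map_cons, hab, hLl]⟩

theorem natAbs_le_rootB {C : ℕ} {v : ℤ} (hC : C ≤ 40320) (h : v.natAbs * v.natAbs < C) :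
    v.natAbs ≤ rootB C := by
  have key : ∀ b : ℕ, C ≤ b * b → v.natAbs ≤ b := by
    intro b hb
    by_contra hlt
    have := Nat.mul_le_mul (Nat.le_of_lt (not_le.mp hlt)) (Nat.le_of_lt (not_le.mp hlt))
    omega
  unfold rootB
  split_ifs <;> exact key _ (by omega)

theorem mem_cand {C d : ℕ} {v : ℤ} (hC : C ≤ 40320) (h : okVal C d v = true) : v ∈ cand C d := by
  have h' := h
  simp only [okVal, Bool.and_eq_true, Nat.blt_eq, beq_iff_eq] at h'
  obtain ⟨⟨⟨h1, h2⟩, -⟩, h4⟩ := h'
  set i := 443520 / C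
  set st := d / Nat.gcd d i with hst
  have hd : 0 < d := by omega
  have hg : 0 < Nat.gcd d i := Nat.gcd_pos_of_pos_left _ hd
  have hst0 : 0 < st := Nat.div_pos (Nat.gcd_le_left _ hd) hg
  obtain ⟨m, hm⟩ : st ∣ v.natAbs := by
    refine (Nat.coprime_div_gcd_div_gcd hg).dvd_of_dvd_mul_left ?_
    refine Nat.dvd_of_mul_dvd_mul_right hg ?_
    rw [Nat.div_mul_cancel (Nat.gcd_dvd_left _ _), mul_right_comm,
      Nat.div_mul_cancel (Nat.gcd_dvd_right _ _)]
    exact Nat.dvd_of_mod_eq_zero h4
  set k := Nat.min (d - 1) (rootB C) / st with hk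
  have hmk : m ≤ k := by
    rw [hk, Nat.le_div_iff_mul_le hst0, mul_comm, ← hm]
    exact le_min (by omega) (natAbs_le_rootB hC h2)
  simp only [cand, List.mem_filter, List.mem_map, List.mem_range]
  refine ⟨?_, h⟩
  show ∃ a < 2 * k + 1, (Int.ofNat a - (k : ℤ)) * (st : ℤ) = v
  clear_value k st
  rcases Int.natAbs_eq v with hv | hv
  · exact ⟨k + m, by omega, by rw [hv, hm, Int.ofNat_eq_natCast]; push_cast; ring⟩
  · exact ⟨k - m, by omega, by rw [hv, hm, Int.ofNat_eq_natCast, Nat.cast_sub hmk]; push_cast; ring⟩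

theorem sum_prep {p : ℕ} : ∀ L : List Pr, (∀ a ∈ L, a.2.natAbs ≤ 1024) →
    ((((L.map (prep p)).map fun a => a.2.1).sum : ℕ) : ℤ) =
      (L.map fun x => sgn p x.1 * x.2).sum + ((1024 * L.length : ℕ) : ℤ) := by
  intro L
  induction L with
  | nil => intro _; simp
  | cons a L ih =>
    intro h
    have h1 := h a List.mem_cons_self
    have h2 : 0 ≤ sgn p a.1 * a.2 + 1024 := by
      unfold sgn
      split <;> omega
    simp only [List.map_cons, List.sum_cons, List.length_cons, Nat.cast_add, prep]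
    rw [show ((sgn p a.1 * a.2 + 1024).toNat : ℤ) = sgn p a.1 * a.2 + 1024 from Int.toNat_of_nonneg h2,
      ih fun x hx => h x (List.mem_cons_of_mem _ hx)]
    push_cast
    ring

theorem allRows_spec {p e t C : ℕ} {vals : ℕ → List ℤ} {ok : ℕ → ℤ → Bool} {f : Row → Bool}
    {L : List Pr} {b : ℕ} {v : ℤ} (h : allRows p e t C vals ok (L.map Prod.fst, b) f = true)
    (hmem : ∀ a ∈ L, a.2 ∈ vals a.1) (hbd : ∀ a ∈ L, a.2.natAbs ≤ 1024)
    (hv : v = eps p e b * lin p L) (hok : ok b v = true)
    (hC : (L.map sq).sum + t * (v.natAbs * v.natAbs) < C) : f (L, (b, v)) = true := by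
  unfold allRows at h
  have hsq : ((L.map (prep p)).map fun a => a.1).sum = (L.map sq).sum := by
    rw [List.map_map]; rfl
  have := allPick_spec _ _ _ _ _ (L.map (prep p)) h ?_ (by rw [hsq]; omega) ?_
  · have hL : ((L.map (prep p)).map fun a => a.2.2) = L := by
      rw [List.map_map]; exact List.map_id L
    rw [hL] at this
    simpa [excVal, hv] using this
  · simp only [List.map_map]
    rw [List.forall₂_map_left_iff, List.forall₂_map_right_iff, List.forall₂_same]
    intro a ha
    exact List.mem_map.mpr ⟨a.2, hmem a ha, rfl⟩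
  · simp only [leafOK, hsq, zero_add, List.length_map]
    rw [sum_prep L hbd, add_sub_cancel_right]
    have habs : (lin p L).natAbs = v.natAbs := by
      rw [hv, Int.natAbs_mul]
      unfold eps
      split <;> simp
    have hle : (1 + (L.map fun x => sgn p x.1 * x.2).sum).natAbs = v.natAbs := habs
    rw [hle, Nat.ble_eq_true_of_le (by omega), cond_true]
    rw [hv] at hok
    exact hok

/-- The pattern of a block is among the patterns of the option. -/
theorem mem_patsFrom {p e t M : ℕ} {bad pool : List ℕ} {A : Multiset ℕ} {b : ℕ}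
    (hA : ∀ d ∈ A, d ∈ pool) (hcard : Multiset.card A = e - 1) (h2 : 2 ≤ b) (hbM : M % b = 0)
    (hbad : bad.contains b = false)
    (hres : b % p = e % p ∨ b % p = p - e % p)
    (hlin : eps p e b * (b : ℤ) = 1 + (A.map fun d => sgn p d * (d : ℤ)).sum)
    (hsum : 1 + (A.map fun d => d * d).sum + t * (b * b) ≤ 443520) :
    ∃ c : List ℕ, (↑c : Multiset ℕ) = A ∧ ((c, b) : Pat) ∈ patsFrom p e t M bad pool := by
  obtain ⟨c, hc, rfl⟩ := mem_combs pool A hA
  rw [hcard] at hc
  simp only [Multiset.map_coe, Multiset.sum_coe] at hlin hsum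
  have hb : excDeg p c = b := by
    have : linDeg p c = eps p e b * (b : ℤ) := hlin.symm
    rw [excDeg, this, Int.natAbs_mul, Int.natAbs_natCast]
    unfold eps
    split <;> simp
  refine ⟨c, rfl, List.mem_map.mpr ⟨c, List.mem_filter.mpr ⟨hc, ?_⟩, by rw [hb]⟩⟩
  simp only [okDegs, hb, Bool.and_eq_true, Bool.or_eq_true, decide_eq_true_eq, beq_iff_eq,
    Bool.not_eq_true']
  exact ⟨⟨⟨⟨⟨h2, hbM⟩, hbad⟩, hres⟩, hlin⟩, hsum⟩

end Cfsg.Agent.Lib.M22Order33.Check
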