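import Cfsg.Agent.Lib.M22Order33.Lists

/-!
The possible shapes `(c, e, m)` of the local data at 11, 7 and 5: `c` the order of the complement
in the centralizer, `e` the inertial index and `m` the Sylow number.
-/

set_option autoImplicit false
set_option maxRecDepth 4000

namespace Cfsg.Agent.Lib.M22Order33.Check

/-- The divisors of a number. -/
def divList (N : ℕ) : List ℕ := (List.range (N + 1)).filter fun a => N % a == 0

theorem mem_divList {N a : ℕ} (hN : 0 < N) (h : a ∣ N) : a ∈ divList N := by
  simp only [divList, List.mem_filter, List.mem_range, beq_iff_eq]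
  exact ⟨Nat.lt_succ_of_le (Nat.le_of_dvd hN h), Nat.mod_eq_zero_of_dvd h⟩

/-- The degrees excluded when the complement has order `c`. -/
def badOf (p c : ℕ) : List ℕ :=
  if c = 1 then [] else if c % 2 = 0 then small p else List.range p

/-- Whether no pattern exists. -/
def noPats (p c e m : ℕ) (pool : List ℕ → List ℕ) : Bool :=
  (patsFrom p e ((p - 1) / e) (e * m) (badOf p c) (pool (poolA p (e * m) (badOf p c)))).isEmpty

/-- The centralizer orders to test for eleven. -/
def cs22 : List ℕ :=
  (List.range 1833).filterMap fun j =>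
    if 0 < j ∧ 20160 % j = 0 then some (22 * j) else none

theorem mem_cs22 {C : ℕ} (h : C ∣ 443520) (h22 : 22 ∣ C) (hle : C ≤ 40320) : C ∈ cs22 := by
  obtain ⟨j, rfl⟩ := h22
  rw [show (443520 : ℕ) = 22 * 20160 by norm_num] at h
  have hj : j ∣ 20160 := Nat.dvd_of_mul_dvd_mul_left (by norm_num) h
  have h0 : 0 < j := Nat.pos_of_dvd_of_pos hj (by norm_num)
  simp only [cs22, List.mem_filterMap, List.mem_range]
  exact ⟨j, by omega, by rw [if_pos ⟨h0, Nat.mod_eq_zero_of_dvd hj⟩]⟩

/-- No row at an involution centralizing the element of order eleven. -/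
def noRows11 (c e m : ℕ) : Bool :=
  (patsFrom 11 e (10 / e) (e * m) (badOf 11 c) (poolA 11 (e * m) (badOf 11 c))).all fun S =>
    cs22.all fun C => allRows 11 e (10 / e) C (fun d => (cand C d).filter (congOK 11 d))
      (fun d v => congOK 11 d v && okVal C d v) S fun _ => false

/-- Whether a shape at eleven is admissible. -/
def shape11 (c e m : ℕ) : Bool :=
  (c == 1 && e == 5) ||
    (c != 1 && (noPats 11 c e m id || (c % 2 == 0 && c % 11 != 0 && noRows11 c e m)))

theorem shape11_all : (divList 1152).all (fun a => (divList 35).all fun b =>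
    [2, 5, 10].all fun e => !((a * b) % 11 == 1 && a * b != 1 && 40320 % (a * b * e) == 0) ||
      shape11 (40320 / (a * b * e)) e (a * b)) = true := by
  decide +kernel

/-- Whether the orders of the centralizer of an involution are covered. -/
def coverOK (p c e : ℕ) (Cs : List ℕ) : Bool :=
  let o2 := Nat.gcd (c * e) 128
  let odd := c * e / o2
  (List.range (odd + 1)).all fun j => !(decide (0 < j) && odd % j == 0) ||
    (List.range (40320 / (p * o2 * j) + 1)).all fun i =>
      !(i % p == 1 && 40320 % (p * o2 * j * i) == 0) || Cs.contains (p * o2 * j * i)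

/-- Whether a shape is an instance of an option. -/
def fits (o : Opt) (p c e m : ℕ) : Bool :=
  p == o.p && e == o.e && (p - 1) / e == o.t && o.M % (e * m) == 0 && coverOK p c e o.Cs

/-- Whether a shape at seven is admissible. -/
def shape7 (c e m : ℕ) : Bool :=
  (c == 1 && e == 3) || c % 11 == 0 || (c != 1 && noPats 7 c e m (fun l => l.filter ok11)) ||
    (c % 2 == 0 && c % 5 != 0 && (fits opt7a 7 c e m || fits opt7b 7 c e m))

theorem shape7_all : (divList 1152).all (fun a => (divList 55).all fun b =>
    [2, 3, 6].all fun e => !((a * b) % 7 == 1 && a * b != 1 && 63360 % (a * b * e) == 0) ||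
      shape7 (63360 / (a * b * e)) e (a * b)) = true := by
  decide +kernel

/-- Whether a shape at five is admissible. -/
def shape5 (c e m : ℕ) : Bool :=
  (c == 1 && e == 4) || c % 11 == 0 || c % 7 == 0 ||
    (c != 1 && noPats 5 c e m (fun l => l.filter ok11)) ||
    (c % 2 == 0 && (fits opt5a 5 c e m || fits opt5b 5 c e m || fits opt5c 5 c e m))

theorem shape5_all : (divList 1152).all (fun a => (divList 77).all fun b =>
    [2, 4].all fun e => !((a * b) % 5 == 1 && a * b != 1 && 88704 % (a * b * e) == 0) ||
      shape5 (88704 / (a * b * e)) e (a * b)) = true := by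
  decide +kernel

end Cfsg.Agent.Lib.M22Order33.Check
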