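import Cfsg.Agent.Lib.M22Order33.Rows
import Cfsg.Agent.Lib.M22Order33.Options
import Cfsg.Agent.Lib.BrauerTuan.Simple

/-!
The local data at the primes eleven, seven and five.
-/

set_option autoImplicit false
set_option linter.unusedSectionVars false
set_option linter.style.haveILetI false

namespace Cfsg.Agent.Lib.M22Order33

open scoped ComplexConjugate
open Cfsg Cfsg.Agent.Lib Finset Subgroup
open Cfsg.Agent.Lib.BrauerReynolds Cfsg.Agent.Lib.BrauerTuan Cfsg.Agent.Lib.DefectOne
open Cfsg.Agent.Lib.SmallGroups.PrimeChar (xp fusion xp_injective centralizer_xp)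

universe u

variable {G : Type u} [Group G] [Fintype G] [IsSimpleGroup G] {p : ℕ} [hp : Fact p.Prime]

/-- The numerical properties of the prime. -/
structure Prime443520 (p N : ℕ) : Prop where
  mul : 443520 = p * N
  not_dvd : ¬ p ∣ N
  odd : p ≠ 2

theorem exists_setting_of (h : Nat.card G = 443520) {N : ℕ} (P : Prime443520 p N) :
    ∃ D : Setting p G, 0 < D.n ∧ Nat.card D.S.V * (D.e * (1 + D.n * p)) = N := by
  have hdvd : p ∣ Nat.card G := by rw [h, P.mul]; exact dvd_mul_right _ _
  have hR := reduced_of_simple (not_comm h) hdvd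
  obtain ⟨S⟩ := (inferInstance : Nonempty (Sylow p G))
  have hS : Nat.card (S : Subgroup G) = p := by
    have := SmallGroups.card_sylow_eq (p := p) (k := 1) (m := N) S (by rw [h, P.mul, pow_one]) P.not_dvd
    simpa using this
  obtain ⟨n, hn⟩ : ∃ n, Nat.card (Sylow p G) = 1 + n * p := by
    have h1 := card_sylow_modEq_one p G
    have h2 : 1 ≤ Nat.card (Sylow p G) := Nat.card_pos
    obtain ⟨j, hj⟩ := (Nat.modEq_iff_dvd' h2).mp h1.symm
    exact ⟨j, by rw [mul_comm]; omega⟩
  obtain ⟨D, -, -⟩ := exists_setting hR S hS n hn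
  refine ⟨D, D.n_pos hR, ?_⟩
  have h1 := D.card_group
  rw [h, P.mul, mul_assoc] at h1
  exact (Nat.eq_of_mul_eq_mul_left hp.out.pos h1).symm

omit [IsSimpleGroup G] in
theorem sylow_card (D : Setting p G) (hN : ¬ p * p ∣ Nat.card G) (S : Sylow p G) :
    Nat.card (S : Subgroup G) = p := by
  have hdvd : p ∣ Nat.card G := by
    rw [D.card_group, mul_assoc]; exact dvd_mul_right _ _
  rw [S.card_eq_multiplicity]
  have h1 := hp.out.factorization_pos_of_dvd Nat.card_pos.ne' hdvd
  have h2 : ¬ 2 ≤ (Nat.card G).factorization p := fun h =>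
    hN (by rw [← pow_two]; exact (hp.out.pow_dvd_iff_le_factorization Nat.card_pos.ne').mpr h)
  rw [show (Nat.card G).factorization p = 1 by omega, pow_one]

omit [IsSimpleGroup G] in
theorem exists_conj_xp (D : Setting p G) (hN : ¬ p * p ∣ Nat.card G) {y : G} (hy : orderOf y = p) :
    ∃ (g : G) (j : ZMod p), j ≠ 0 ∧ g * y * g⁻¹ = xp p D.S.x j := by
  classical
  let Sx : Sylow p G := Sylow.ofCard (zpowers D.S.x) (by
    rw [← Sylow.card_eq_multiplicity (default : Sylow p G), sylow_card D hN, Nat.card_zpowers,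
      D.S.order_x])
  have hy' : IsPGroup p (zpowers y) := IsPGroup.of_card (n := 1) (by rw [Nat.card_zpowers, hy, pow_one])
  obtain ⟨Q, hQ⟩ := hy'.exists_le_sylow
  obtain ⟨g, hg⟩ := MulAction.exists_smul_eq G Q Sx
  have h1 : g * y * g⁻¹ ∈ zpowers D.S.x := by
    have h2 : g * y * g⁻¹ ∈ ((g • Q : Sylow p G) : Subgroup G) := by
      rw [Sylow.coe_subgroup_smul]
      exact Subgroup.smul_mem_pointwise_smul y (MulAut.conj g) _ (hQ (mem_zpowers y))
    rw [hg] at h2
    simpa [Sx] using h2
  obtain ⟨j, hj⟩ := (mem_zpowers_iff_xp D.S.order_x).mp h1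
  refine ⟨g, j, fun h0 => ?_, hj.symm⟩
  subst h0
  rw [SmallGroups.PrimeChar.xp_zero, eq_comm, conj_eq_one_iff] at hj
  rw [hj, orderOf_one] at hy
  exact hp.out.ne_one hy.symm

omit [IsSimpleGroup G] in
/-- All elements of order `p` have centralizers of the same order. -/
theorem card_centralizer_of_order (D : Setting p G) (hN : ¬ p * p ∣ Nat.card G) {y : G}
    (hy : orderOf y = p) :
    Nat.card (centralizer ({y} : Set G)) = p * Nat.card D.S.V := by
  obtain ⟨g, j, hj, hgy⟩ := exists_conj_xp D hN hy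
  have hcong : Nat.card (centralizer ({y} : Set G)) =
      Nat.card (centralizer ({g * y * g⁻¹} : Set G)) := by
    refine Nat.card_congr ((MulAut.conj g).toEquiv.subtypeEquiv fun w => ?_)
    simp only [MulEquiv.toEquiv_eq_coe, EquivLike.coe_coe, MulAut.conj_apply,
      mem_centralizer_singleton_iff]
    constructor
    · intro hw
      calc g * w * g⁻¹ * (g * y * g⁻¹) = g * (w * y) * g⁻¹ := by group
        _ = _ := by rw [hw]; group
    · intro hw
      calc w * y = g⁻¹ * (g * w * g⁻¹ * (g * y * g⁻¹)) * g := by group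
        _ = _ := by rw [hw]; group
  rw [hcong, hgy, centralizer_xp D.S.order_x hj, card_centralizer_x]

omit [IsSimpleGroup G] in
/-- A prime dividing the complement at `p` has `p` dividing its own complement. -/
theorem dvd_complement {q : ℕ} [hq : Fact q.Prime] (D : Setting p G) (E : Setting q G)
    (hqG : ¬ q * q ∣ Nat.card G) (hpq : p ≠ q) (hdvd : q ∣ Nat.card D.S.V) :
    p ∣ Nat.card E.S.V := by
  obtain ⟨⟨y, hyV⟩, hy⟩ := exists_prime_orderOf_dvd_card' q hdvd
  rw [Subgroup.orderOf_mk] at hy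
  have hx : D.S.x ∈ centralizer ({y} : Set G) :=
    mem_centralizer_singleton_iff.mpr (D.S.commute y hyV).eq
  have h1 := Subgroup.orderOf_dvd_natCard _ hx
  rw [D.S.order_x, card_centralizer_of_order E hqG hy] at h1
  exact (hp.out.dvd_mul.mp h1).resolve_left fun h2 =>
    hpq ((Nat.prime_dvd_prime_iff_eq hp.out hq.out).mp h2)

omit [IsSimpleGroup G] in
theorem exists_involution (D : Setting p G) (hc : 2 ∣ Nat.card D.S.V) :
    ∃ v ∈ D.S.V, orderOf v = 2 := by
  haveI : Fact (Nat.Prime 2) := ⟨Nat.prime_two⟩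
  obtain ⟨⟨v, hv⟩, h2⟩ := exists_prime_orderOf_dvd_card' 2 hc
  exact ⟨v, hv, by rwa [Subgroup.orderOf_mk] at h2⟩

/-- The degrees in the block are not small. -/
theorem not_mem_badOf (h : Nat.card G = 443520) (hodd : p ≠ 2) {D : Setting p G} (K : Blk D)
    {χ : IrrCharacter G} (hχ : χ ∈ K.A ∪ K.B) :
    degOf χ ∉ Check.badOf p (Nat.card D.S.V) := by
  unfold Check.badOf
  split_ifs with h1 h2
  · exact List.not_mem_nil
  · obtain ⟨v, hv, hv2⟩ := exists_involution D (Nat.dvd_of_mod_eq_zero h2)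
    have ha := okVal_iv h (K.ne_trivial hχ) hv2
    simp only [Check.okVal, Bool.and_eq_true, Nat.blt_eq, beq_iff_eq] at ha
    obtain ⟨⟨⟨hlt, -⟩, h4⟩, -⟩ := ha
    have hpd := K.congr_iv hχ hv hv2
    have h4' : (4 : ℤ) ∣ iv χ v - (degOf χ : ℤ) := Int.dvd_of_emod_eq_zero h4
    have hcop : IsCoprime (4 : ℤ) (p : ℤ) := by
      rw [Int.isCoprime_iff_gcd_eq_one, show (4 : ℤ) = ((4 : ℕ) : ℤ) from rfl,
        Int.gcd_natCast_natCast]
      refine Nat.Coprime.symm (hp.out.coprime_iff_not_dvd.mpr fun hd => ?_)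
      have := (Nat.prime_dvd_prime_iff_eq hp.out Nat.prime_two).mp
        (hp.out.dvd_of_dvd_pow (show p ∣ 2 ^ 2 by norm_num; exact hd))
      exact hodd this
    obtain ⟨k, hk⟩ := hcop.mul_dvd h4' hpd
    intro hmem
    simp only [Check.small, List.mem_range] at hmem
    have hne : k ≠ 0 := fun h0 => by rw [h0, mul_zero] at hk; omega
    have hbound : (4 * (p : ℤ)) ≤ |4 * (p : ℤ) * k| := by
      rw [abs_mul, abs_of_nonneg (by positivity : (0 : ℤ) ≤ 4 * p)]
      exact le_mul_of_one_le_right (by positivity) (Int.one_le_abs hne)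
    rw [← hk] at hbound
    rcases abs_cases (iv χ v - (degOf χ : ℤ)) with ⟨hh, -⟩ | ⟨hh, -⟩ <;> rw [hh] at hbound <;> omega
  · intro hmem
    rw [List.mem_range] at hmem
    refine h1 (Subgroup.card_eq_one.mpr
      (V_eq_bot_of_deg_lt D (K.mem_setting χ hχ) (K.ne_trivial hχ) hmem))

/-- A shape with no patterns does not occur. -/
theorem not_noPats (h : Nat.card G = 443520) (hodd : p ≠ 2) {D : Setting p G} (K : Blk D)
    {pool : List ℕ → List ℕ} (hpool : ∀ l d, d ∈ l → (∃ χ ∈ K.A, degOf χ = d) → d ∈ pool l) :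
    Check.noPats p (Nat.card D.S.V) D.e (1 + D.n * p) pool = false := by
  rw [← Bool.not_eq_true]
  intro hno
  unfold Check.noPats at hno
  rw [List.isEmpty_iff] at hno
  have ht : (p - 1) / D.e = D.t := by
    rw [← D.het, Nat.mul_div_cancel_left _ (by have := D.two_le_e; omega)]
  obtain ⟨Λ, hΛ⟩ := K.exists_listing h hodd (M := D.e * (1 + D.n * p))
    (bad := Check.badOf p (Nat.card D.S.V))
    (pool := pool (Check.poolA p (D.e * (1 + D.n * p)) (Check.badOf p (Nat.card D.S.V))))
    rfl ht dvd_rfl (fun χ hχ => not_mem_badOf h hodd K hχ) (fun d hd hex => hpool _ d hd hex)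
  rw [hno] at hΛ
  exact List.not_mem_nil hΛ

omit [IsSimpleGroup G] in
theorem card_normalizer (D : Setting p G) :
    Nat.card (normalizer ((zpowers D.S.x : Subgroup G) : Set G)) =
      D.e * (p * Nat.card D.S.V) := by
  rw [SmallGroups.PrimeChar.card_normalizer_zpowers D.S.order_x, D.fusion_card, card_centralizer_x]

omit [IsSimpleGroup G] in
theorem conj_mem_V (D : Setting p G) {g : G}
    (hg : g ∈ normalizer ((zpowers D.S.x : Subgroup G) : Set G)) {v : G} (hv : v ∈ D.S.V) :
    g * v * g⁻¹ ∈ D.S.V := by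
  have h := D.S.norm_V g⁻¹ ((mem_normalizer_iff.mp (inv_mem hg) _).mp (mem_zpowers _)) v hv
  simpa using h

omit [IsSimpleGroup G] in
theorem odd_card_involutions (D : Setting p G) (hc : 2 ∣ Nat.card D.S.V) :
    ¬ 2 ∣ Nat.card {v : D.S.V // orderOf v = 2} := by
  classical
  haveI := Fintype.ofFinite D.S.V
  rw [Nat.card_eq_fintype_card, Fintype.card_subtype]
  rw [Nat.card_eq_fintype_card] at hc
  have h1 : Even ((univ : Finset D.S.V).filter fun v => v⁻¹ ≠ v).card := by
    rw [← ZMod.natCast_eq_zero_iff_even, card_eq_sum_ones, Nat.cast_sum]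
    refine sum_involution (fun v _ => v⁻¹) (fun v _ => by norm_num; rfl) (fun v hv _ => ?_)
      (fun v hv => ?_) (fun v _ => inv_inv v)
    · exact (mem_filter.mp hv).2
    · rw [mem_filter] at hv ⊢
      exact ⟨mem_univ _, fun h => hv.2 (by rw [inv_inv] at h; exact h.symm)⟩
  have h2 := card_filter_add_card_filter_not (s := (univ : Finset D.S.V)) (fun v => v⁻¹ = v)
  rw [card_univ] at h2
  have h3 : (univ : Finset D.S.V).filter (fun v => v⁻¹ = v) =
      insert 1 ((univ : Finset D.S.V).filter fun v => orderOf v = 2) := by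
    ext v
    simp only [mem_filter, mem_univ, true_and, mem_insert]
    constructor
    · intro hv
      by_cases h4 : v = 1
      · exact Or.inl h4
      · right
        refine orderOf_eq_prime ?_ h4
        rw [pow_two]
        nth_rw 1 [← hv]
        exact inv_mul_cancel v
    · rintro (rfl | hv)
      · exact inv_one
      · refine inv_eq_of_mul_eq_one_right ?_
        rw [← pow_two, ← hv, pow_orderOf_eq_one]
  rw [h3, card_insert_of_notMem (by simp)] at h2
  obtain ⟨a, ha⟩ := h1
  intro h5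
  simp only [ne_eq] at ha h2
  rw [show ((univ : Finset D.S.V).filter fun v => ¬ v⁻¹ = v).card = a + a by convert ha] at h2
  omega

/-- An involution of the complement fixed by a Sylow 2-subgroup of the normalizer, and the order of
its centralizer. -/
theorem exists_fixed_involution (h : Nat.card G = 443520) {D : Setting p G}
    (hN : ¬ p * p ∣ Nat.card G) (hc : 2 ∣ Nat.card D.S.V)
    (h11 : ∀ y : G, orderOf y = 11 → Nat.card (centralizer ({y} : Set G)) = 11)
    {Cs : List ℕ} (hcov : Check.coverOK p (Nat.card D.S.V) D.e Cs = true) :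
    ∃ v ∈ D.S.V, orderOf v = 2 ∧ Nat.card (centralizer ({v} : Set G)) ∈ Cs ∧
      Nat.card (centralizer ({v} : Set G)) ≤ 40320 := by
  classical
  haveI : Fact (Nat.Prime 2) := ⟨Nat.prime_two⟩
  set c := Nat.card D.S.V
  set N := normalizer ((zpowers D.S.x : Subgroup G) : Set G) with hNdef
  have hNc : Nat.card N = D.e * (p * c) := card_normalizer D
  obtain ⟨T⟩ := (inferInstance : Nonempty (Sylow 2 N))
  set I := {v : D.S.V // orderOf v = 2}
  letI act : MulAction T I :=
    { smul := fun g v => ⟨⟨((g : N) : G) * (v.1 : G) * ((g : N) : G)⁻¹,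
          conj_mem_V D (g : N).2 v.1.2⟩, by
        rw [← Subgroup.orderOf_coe]
        show orderOf (((g : N) : G) * (v.1 : G) * ((g : N) : G)⁻¹) = 2
        rw [show ((g : N) : G) * (v.1 : G) * ((g : N) : G)⁻¹ = MulAut.conj ((g : N) : G) (v.1 : G)
          from rfl, MulEquiv.orderOf_eq, Subgroup.orderOf_coe]
        exact v.2⟩
      one_smul := fun v => Subtype.ext (Subtype.ext
        (show (((1 : T) : N) : G) * (v.1 : G) * (((1 : T) : N) : G)⁻¹ = v.1 by simp))
      mul_smul := fun a b v => Subtype.ext (Subtype.ext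
        (show (((a * b : T) : N) : G) * (v.1 : G) * (((a * b : T) : N) : G)⁻¹ =
          ((a : N) : G) * (((b : N) : G) * (v.1 : G) * ((b : N) : G)⁻¹) * ((a : N) : G)⁻¹ by
          push_cast; group)) }
  obtain ⟨⟨v, hv2⟩, hfix⟩ :=
    T.2.nonempty_fixed_point_of_prime_not_dvd_card I (odd_card_involutions D hc)
  rw [← Subgroup.orderOf_coe] at hv2
  set C := centralizer ({(v : G)} : Set G) with hC
  refine ⟨v, v.2, hv2, ?_⟩
  -- the elements in the centralizer
  have hxC : D.S.x ∈ C := mem_centralizer_singleton_iff.mpr (D.S.commute v v.2).eq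
  have hTC : ∀ g : T, ((g : N) : G) ∈ C := by
    intro g
    have h1 : ((g : N) : G) * (v : G) * ((g : N) : G)⁻¹ = (v : G) :=
      congrArg (fun w : I => ((w.1 : D.S.V) : G)) (hfix g)
    exact mem_centralizer_singleton_iff.mpr (mul_inv_eq_iff_eq_mul.mp h1)
  -- divisibility of the order
  have hv1 : (v : G) ≠ 1 := ne_one_of_orderOf_two hv2
  have hdvd : Nat.card C ∣ 40320 := by
    have h1 : Nat.card C ∣ 11 * 40320 := by
      rw [show 11 * 40320 = Nat.card G by rw [h]]
      exact Subgroup.card_subgroup_dvd_card C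
    refine (Nat.Coprime.symm ((Nat.Prime.coprime_iff_not_dvd (by norm_num)).mpr fun h11d => ?_)
      ).dvd_of_dvd_mul_left h1
    haveI : Fact (Nat.Prime 11) := ⟨by norm_num⟩
    obtain ⟨⟨y, hyC⟩, hy⟩ := exists_prime_orderOf_dvd_card' 11 h11d
    rw [Subgroup.orderOf_mk] at hy
    have h2 : (v : G) ∈ centralizer ({y} : Set G) :=
      mem_centralizer_singleton_iff.mpr (mem_centralizer_singleton_iff.mp hyC).symm
    have h3 := Subgroup.orderOf_dvd_natCard _ h2
    rw [h11 y hy, hv2] at h3
    norm_num at h3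
  refine ⟨?_, Nat.le_of_dvd (by norm_num) hdvd⟩
  -- the normalizer inside the centralizer
  have hp2 : p ≠ 2 := fun h2 => D.S.coprime (h2 ▸ hc)
  set xC : C := ⟨D.S.x, hxC⟩ with hxCdef
  have hord : orderOf xC = p := by rw [← Subgroup.orderOf_coe]; exact D.S.order_x
  let Q : Sylow p C := Sylow.ofCard (zpowers xC) (by
    rw [Nat.card_zpowers, hord]
    have h1 := hp.out.factorization_pos_of_dvd (n := Nat.card C) Nat.card_pos.ne'
      (hord ▸ orderOf_dvd_natCard xC)
    have h2 : ¬ 2 ≤ (Nat.card C).factorization p := fun h' => hN ((by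
      rw [← pow_two]; exact (hp.out.pow_dvd_iff_le_factorization Nat.card_pos.ne').mpr h' :
        p * p ∣ Nat.card C).trans (Subgroup.card_subgroup_dvd_card C))
    rw [show (Nat.card C).factorization p = 1 by omega, pow_one])
  set M := normalizer ((Q : Subgroup C) : Set C) with hM
  have hQ : (Q : Subgroup C) = zpowers xC := by simp [Q]
  have hmemM : ∀ g : C, g ∈ M ↔ (g : G) ∈ N := by
    intro g
    rw [hM, hQ, hNdef]
    have key : ∀ a : C, a ∈ zpowers xC ↔ (a : G) ∈ zpowers D.S.x := by
      intro a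
      rw [show zpowers D.S.x = (zpowers xC).map C.subtype by rw [MonoidHom.map_zpowers]; rfl,
        Subgroup.mem_map]
      exact ⟨fun ha => ⟨a, ha, rfl⟩, fun ⟨b, hb, hba⟩ => (Subtype.ext hba : b = a) ▸ hb⟩
    constructor
    · intro hg
      rw [mem_normalizer_iff] at hg
      have h1 : ∀ z ∈ zpowers D.S.x, (g : G) * z * (g : G)⁻¹ ∈ zpowers D.S.x := by
        intro z hz
        have hzC : z ∈ C := (zpowers_le.mpr hxC) hz
        have := (hg ⟨z, hzC⟩).mp ((key _).mpr hz)
        exact (key _).mp this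
      rw [mem_normalizer_iff]
      refine fun z => ⟨h1 z, fun hz => ?_⟩
      have hzC : z ∈ C := by
        have h2 := (zpowers_le.mpr hxC) hz
        have h3 := C.mul_mem (C.mul_mem (C.inv_mem g.2) h2) g.2
        rwa [show (g : G)⁻¹ * ((g : G) * z * (g : G)⁻¹) * g = z by group] at h3
      have := (hg ⟨z, hzC⟩).mpr ((key _).mpr hz)
      exact (key _).mp this
    · intro hg
      rw [mem_normalizer_iff] at hg ⊢
      intro z
      rw [key, key]
      exact hg z
  let f : M →* N :=
    { toFun := fun g => ⟨((g : C) : G), (hmemM _).mp g.2⟩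
      map_one' := rfl
      map_mul' := fun _ _ => rfl }
  have hf : Function.Injective f := fun a b hab => by
    have h1 : ((a : C) : G) = ((b : C) : G) := congrArg (fun w : N => (w : G)) hab
    exact Subtype.ext (Subtype.ext h1)
  have hMN : Nat.card M ∣ D.e * (p * c) := hNc ▸ Subgroup.card_dvd_of_injective f hf
  have hpM : p ∣ Nat.card M := by
    have h1 : xC ∈ M := Subgroup.le_normalizer (hQ ▸ mem_zpowers xC)
    have := Subgroup.orderOf_dvd_natCard _ h1
    rwa [hord] at this
  let i : T →* M :=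
    { toFun := fun g => ⟨⟨((g : N) : G), hTC g⟩, (hmemM _).mpr (g : N).2⟩
      map_one' := rfl
      map_mul' := fun _ _ => rfl }
  have hi : Function.Injective i := fun a b hab => by
    have h1 : ((a : N) : G) = ((b : N) : G) := congrArg (fun w : M => ((w : C) : G)) hab
    exact Subtype.ext (Subtype.ext h1)
  have hTM : Nat.card T ∣ Nat.card M := Subgroup.card_dvd_of_injective i hi
  have ho2 : Nat.card T = Nat.gcd (c * D.e) 128 := by
    have hT : Nat.card T = 2 ^ (Nat.card N).factorization 2 := Sylow.card_eq_multiplicity T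
    rw [hT]
    have h128 : (Nat.card N).factorization 2 ≤ 7 := by
      by_contra hlt
      have h1 : 2 ^ 8 ∣ Nat.card N := ((Nat.prime_two).pow_dvd_iff_le_factorization
        Nat.card_pos.ne').mpr (by omega)
      have h2 := h1.trans (Subgroup.card_subgroup_dvd_card N)
      rw [h] at h2
      norm_num at h2
    have hfac : (Nat.card N).factorization 2 = (c * D.e).factorization 2 := by
      have hc0 : c * D.e ≠ 0 := Nat.mul_ne_zero Nat.card_pos.ne' (by have := D.two_le_e; omega)
      rw [hNc, show D.e * (p * c) = p * (c * D.e) by ring, Nat.factorization_mul hp.out.ne_zero hc0,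
        Finsupp.add_apply, Nat.factorization_eq_zero_of_not_dvd (fun hd =>
          hp2 ((Nat.prime_dvd_prime_iff_eq Nat.prime_two hp.out).mp hd).symm), zero_add]
    rw [hfac] at h128 ⊢
    have hc0 : c * D.e ≠ 0 := Nat.mul_ne_zero Nat.card_pos.ne' (by have := D.two_le_e; omega)
    refine Nat.dvd_antisymm (Nat.dvd_gcd (Nat.ordProj_dvd _ _) ?_) ?_
    · rw [show (128 : ℕ) = 2 ^ 7 by norm_num]
      exact pow_dvd_pow 2 h128
    · obtain ⟨k, -, hk⟩ := (Nat.dvd_prime_pow Nat.prime_two).mp
        ((Nat.gcd_dvd_right (c * D.e) 128).trans (show 128 ∣ 2 ^ 7 by norm_num))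
      rw [hk]
      refine pow_dvd_pow 2 ((Nat.prime_two.pow_dvd_iff_le_factorization hc0).mp ?_)
      rw [← hk]
      exact Nat.gcd_dvd_left _ _
  set o2 := Nat.gcd (c * D.e) 128 with ho2def
  obtain ⟨odd, hodd⟩ : o2 ∣ c * D.e := Nat.gcd_dvd_left _ _
  obtain ⟨j, hj⟩ : p * o2 ∣ Nat.card M := by
    refine Nat.Coprime.mul_dvd_of_dvd_of_dvd ?_ hpM (ho2 ▸ hTM)
    refine hp.out.coprime_iff_not_dvd.mpr fun hd => hp2 ?_
    exact (Nat.prime_dvd_prime_iff_eq hp.out Nat.prime_two).mp
      (hp.out.dvd_of_dvd_pow (n := 7) (hd.trans ((Nat.gcd_dvd_right _ _).trans (by norm_num))))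
  have hjodd : j ∣ odd := by
    rw [hj, show D.e * (p * c) = p * (c * D.e) by ring, hodd,
      show p * o2 * j = p * (o2 * j) by ring] at hMN
    exact Nat.dvd_of_mul_dvd_mul_left (Nat.pos_of_ne_zero fun h0 => by
      rw [h0, zero_mul] at hodd
      have := D.two_le_e
      have := Nat.mul_ne_zero (Nat.card_pos (α := D.S.V)).ne' (show D.e ≠ 0 by omega)
      exact this hodd) (Nat.dvd_of_mul_dvd_mul_left hp.out.pos hMN)
  -- Sylow
  have hsyl : Nat.card (Sylow p C) * Nat.card M = Nat.card C := by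
    rw [mul_comm, SmallGroups.card_normalizer_sylow_mul Q]
  set i0 := Nat.card (Sylow p C) with hi0
  have hmod : i0 % p = 1 := by
    have := card_sylow_modEq_one p C
    rwa [Nat.ModEq, Nat.mod_eq_of_lt hp.out.one_lt] at this
  have hce0 : c * D.e ≠ 0 := Nat.mul_ne_zero Nat.card_pos.ne' (by have := D.two_le_e; omega)
  have ho20 : 0 < o2 := Nat.gcd_pos_of_pos_right _ (by norm_num)
  have hodd0 : 0 < odd := Nat.pos_of_ne_zero fun h0 => hce0 (by rw [hodd, h0, mul_zero])
  have hj0 : 0 < j := Nat.pos_of_dvd_of_pos hjodd hodd0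
  have hdiv : c * D.e / o2 = odd := by rw [hodd, Nat.mul_div_cancel_left _ ho20]
  simp only [Check.coverOK, List.all_eq_true, List.mem_range] at hcov
  have h1 := hcov j (by rw [← ho2def, hdiv]; exact Nat.lt_succ_of_le (Nat.le_of_dvd hodd0 hjodd))
  rw [← ho2def, hdiv] at h1
  simp only [hj0, decide_true, Nat.mod_eq_zero_of_dvd hjodd, beq_self_eq_true, Bool.and_self,
    Bool.not_true, Bool.false_or, List.all_eq_true, List.mem_range] at h1
  have hCeq : Nat.card C = p * o2 * j * i0 := by rw [← hsyl, hj]; ring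
  have h2 := h1 i0 (by
    rw [Nat.lt_succ_iff, Nat.le_div_iff_mul_le (by
      exact Nat.mul_pos (Nat.mul_pos hp.out.pos ho20) hj0)]
    have := Nat.le_of_dvd (by norm_num) hdvd
    rw [hCeq] at this
    rw [mul_comm]
    exact this)
  simp only [hmod, beq_self_eq_true, Bool.true_and, Bool.or_eq_true, Bool.not_eq_true',
    ← hCeq, Nat.mod_eq_zero_of_dvd hdvd, List.contains_iff_mem] at h2
  simpa using h2

end Cfsg.Agent.Lib.M22Order33
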