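import Cfsg.Agent.Lib.M22Order33.Counting
import Cfsg.Agent.Lib.OrderCount.Frobenius

/-!
A simple group of order 443520 has the counts of elements of the Mathieu group of degree 22.
-/

set_option autoImplicit false
set_option linter.unusedSectionVars false
set_option linter.style.haveILetI false
set_option maxRecDepth 4000

namespace Cfsg.Agent.Lib.M22Order33

open Cfsg Cfsg.Agent.Lib Finset
open Cfsg.Agent.Lib.BrauerReynolds Cfsg.Agent.Lib.BrauerTuan Cfsg.Agent.Lib.DefectOne
open Cfsg.Agent.Lib.M22Nse57 (Hist.cnt)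

universe u

variable {G : Type u} [Group G] [Fintype G] [IsSimpleGroup G] [Fintype (ConjClasses G)]
variable [Fact (Nat.Prime 11)] [Fact (Nat.Prime 7)] [Fact (Nat.Prime 5)]

namespace Blocks3

variable (B : Blocks3 G)
include B

theorem cord_dvd' (h : Nat.card G = 443520) {g : G}
    (hg : orderOf g ∉ ({1, 2, 5, 7, 11} : Finset ℕ)) : cord g ∣ 1152 := by
  simp only [mem_insert, mem_singleton, not_or] at hg
  exact B.cord_dvd h (fun h' => hg.1 (by rw [h', orderOf_one])) ⟨hg.2.2.1, hg.2.2.2.1, hg.2.2.2.2⟩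

theorem order_cases (h : Nat.card G = 443520) {g : G}
    (hg : orderOf g ∉ ({1, 2, 5, 7, 11} : Finset ℕ)) :
    orderOf g ∈ ({3, 4, 6, 8, 9, 12, 16, 32, 64, 128} : Finset ℕ) := by
  have hd : orderOf g ∣ 1152 := (orderOf_dvd_cord g).trans (B.cord_dvd' h hg)
  have h18 : ¬ 18 ∣ orderOf g := fun hd18 => by
    obtain ⟨z, hz⟩ := exists_orderOf_dvd g hd18
    have h1 := (orderOf_dvd_cord z).trans (cord_dvd_pow z 9)
    rw [hz, (B.row h (orderOf_pow_of_dvd (by norm_num) (by rw [hz]; norm_num) |>.trans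
      (by rw [hz]))).1] at h1
    norm_num at h1
  have h24 : ¬ 24 ∣ orderOf g := fun hd24 => by
    obtain ⟨z, hz⟩ := exists_orderOf_dvd g hd24
    have h1 := (orderOf_dvd_cord z).trans (cord_dvd_pow z 8)
    rw [hz] at h1
    rcases B.cord_three h (g := z ^ 8) (orderOf_pow_of_dvd (by norm_num) (by rw [hz]; norm_num)
      |>.trans (by rw [hz])) with h2 | h2 <;> rw [h2] at h1 <;> norm_num at h1
  have key : ∀ o, o < 1153 → o ∣ 1152 → ¬ 18 ∣ o → ¬ 24 ∣ o →
      o ∈ ({1, 2, 3, 4, 6, 8, 9, 12, 16, 32, 64, 128} : Finset ℕ) := by decide +kernel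
  have h1 := key _ (Nat.lt_succ_of_le (Nat.le_of_dvd (by norm_num) hd)) hd h18 h24
  simp only [mem_insert, mem_singleton, not_or] at hg h1 ⊢
  omega

theorem cord_nine (h : Nat.card G = 443520) {g : G} (hg : orderOf g = 9) : cord g = 9 := by
  have h1 := cord_dvd_pow g 3
  have h3 : orderOf (g ^ 3) = 3 := by rw [orderOf_pow_of_dvd (by norm_num) (by rw [hg]; norm_num), hg]
  have h9 : 9 ∣ cord g := hg ▸ orderOf_dvd_cord g
  have h2 : ¬ 2 ∣ cord g := fun hd => by
    obtain ⟨z, hz⟩ := exists_orderOf_mul Nat.prime_two hd (by rw [hg]; norm_num)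
    rw [hg] at hz
    have := B.order_cases h (g := z) (by rw [hz]; decide)
    rw [hz] at this
    revert this
    decide
  have h36 : cord g ∣ 36 := by
    rcases B.cord_three h h3 with e | e <;> rw [e] at h1
    · exact h1.trans (by norm_num)
    · exact h1
  have key : ∀ C, C < 37 → C ∣ 36 → 9 ∣ C → ¬ 2 ∣ C → C = 9 := by decide +kernel
  exact key _ (Nat.lt_succ_of_le (Nat.le_of_dvd (by norm_num) h36)) h36 h9 h2

theorem cord_six (h : Nat.card G = 443520) {g : G} (hg : orderOf g = 6) :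
    cord g = 6 ∨ cord g = 12 := by
  have h2 : orderOf (g ^ 3) = 2 := by rw [orderOf_pow_of_dvd (by norm_num) (by rw [hg]; norm_num), hg]
  have h3 : orderOf (g ^ 2) = 3 := by rw [orderOf_pow_of_dvd (by norm_num) (by rw [hg]; norm_num), hg]
  have h384 := cord_dvd_pow g 3
  rw [(B.row h h2).1] at h384
  have h36 : cord g ∣ 36 := by
    rcases B.cord_three h h3 with e | e <;> have h1 := cord_dvd_pow g 2 <;> rw [e] at h1
    · exact h1.trans (by norm_num)
    · exact h1
  have h6 : 6 ∣ cord g := hg ▸ orderOf_dvd_cord g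
  have key : ∀ C, C < 37 → C ∣ 36 → C ∣ 384 → 6 ∣ C → C = 6 ∨ C = 12 := by decide +kernel
  exact key _ (Nat.lt_succ_of_le (Nat.le_of_dvd (by norm_num) h36)) h36 h384 h6

theorem cord_twelve (h : Nat.card G = 443520) {g : G} (hg : orderOf g = 12) : cord g = 12 := by
  have h6 : orderOf (g ^ 2) = 6 := by rw [orderOf_pow_of_dvd (by norm_num) (by rw [hg]; norm_num), hg]
  have h1 := cord_dvd_pow g 2
  have h12 : 12 ∣ cord g := hg ▸ orderOf_dvd_cord g
  rcases B.cord_six h h6 with e | e <;> rw [e] at h1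
  · have := Nat.dvd_trans h12 h1
    norm_num at this
  · exact Nat.dvd_antisymm h1 h12

/-- An element of order twelve is not conjugate to its seventh power. -/
theorem not_conj_seven (h : Nat.card G = 443520) {g : G} (hg : orderOf g = 12) :
    ¬ IsConj g (g ^ 7) := by
  intro hc
  obtain ⟨n, hn⟩ := isConj_iff.mp hc
  have hg7 : orderOf (g ^ 7) = 12 := by
    rw [Nat.Coprime.orderOf_pow (by rw [hg]; norm_num), hg]
  set H := Subgroup.centralizer ({g} : Set G) with hH
  set K := Subgroup.centralizer ({g ^ 4} : Set G) with hK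
  have hHcard : Nat.card H = 12 := B.cord_twelve h hg
  have h49 : g ^ 49 = g := by
    rw [show 49 = 12 * 4 + 1 by norm_num, pow_succ, pow_mul, ← hg, pow_orderOf_eq_one, one_pow, one_mul]
  have hH7 : Subgroup.centralizer ({g ^ 7} : Set G) = H := by
    refine (Subgroup.eq_of_le_of_card_ge (fun a ha => ?_) ?_).symm
    · rw [hH, Subgroup.mem_centralizer_singleton_iff] at ha
      rw [Subgroup.mem_centralizer_singleton_iff]
      exact (show Commute a g from ha).pow_right 7
    · rw [hHcard]; exact (B.cord_twelve h hg7).le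
  have hconj : ∀ a, a ∈ H ↔ n * a * n⁻¹ ∈ H := by
    intro a
    constructor
    · intro ha
      rw [← hH7, Subgroup.mem_centralizer_singleton_iff, ← hn]
      rw [hH, Subgroup.mem_centralizer_singleton_iff] at ha
      calc n * a * n⁻¹ * (n * g * n⁻¹) = n * (a * g) * n⁻¹ := by group
        _ = n * (g * a) * n⁻¹ := by rw [ha]
        _ = n * g * n⁻¹ * (n * a * n⁻¹) := by group
    · intro ha
      rw [← hH7, Subgroup.mem_centralizer_singleton_iff, ← hn] at ha
      rw [hH, Subgroup.mem_centralizer_singleton_iff]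
      have h1 : n * (a * g) * n⁻¹ = n * (g * a) * n⁻¹ := by
        calc n * (a * g) * n⁻¹ = n * a * n⁻¹ * (n * g * n⁻¹) := by group
          _ = n * g * n⁻¹ * (n * a * n⁻¹) := ha
          _ = n * (g * a) * n⁻¹ := by group
      exact mul_left_cancel (mul_right_cancel h1)
  set N := Subgroup.normalizer (H : Set G) ⊓ K with hN
  have hnN : n ∈ N := by
    refine Subgroup.mem_inf.mpr ⟨?_, ?_⟩
    · rw [Subgroup.mem_normalizer_iff]; exact hconj
    · rw [hK, Subgroup.mem_centralizer_singleton_iff, ← mul_inv_eq_iff_eq_mul, ← MulAut.conj_apply, map_pow,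
        MulAut.conj_apply, hn, ← pow_mul, show 7 * 4 = 12 * 2 + 4 by norm_num, pow_add, pow_mul, ← hg,
        pow_orderOf_eq_one, one_pow, one_mul]
  have hHN : H ≤ N := le_inf Subgroup.le_normalizer fun a ha => by
    rw [hH, Subgroup.mem_centralizer_singleton_iff] at ha
    rw [hK, Subgroup.mem_centralizer_singleton_iff]
    exact (show Commute a g from ha).pow_right 4
  haveI : (H.subgroupOf N).Normal :=
    (Subgroup.normal_subgroupOf_iff_le_normalizer hHN).mpr inf_le_left
  have hidx : (H.subgroupOf N).index ∣ 3 := by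
    have h1 : 12 * (H.subgroupOf N).index ∣ 36 := by
      rw [← hHcard, ← Nat.card_congr (Subgroup.subgroupOfEquivOfLe hHN).toEquiv,
        Subgroup.card_mul_index]
      refine (Subgroup.card_dvd_of_le (inf_le_right : N ≤ K)).trans ?_
      have h4 : orderOf (g ^ 4) = 3 := by
        rw [orderOf_pow_of_dvd (by norm_num) (by rw [hg]; norm_num), hg]
      rcases B.cord_three h h4 with e | e
      · exact dvd_trans (dvd_of_eq e) (by norm_num)
      · exact dvd_of_eq e
    exact Nat.dvd_of_mul_dvd_mul_left (by norm_num) (show 12 * (H.subgroupOf N).index ∣ 12 * 3 from h1)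
  have h3 : n ^ (H.subgroupOf N).index ∈ H := by
    have := Subgroup.pow_index_mem (H.subgroupOf N) ⟨n, hnN⟩
    rwa [Subgroup.mem_subgroupOf] at this
  have h2 : n ^ 2 ∈ H := by
    rw [hH, Subgroup.mem_centralizer_singleton_iff, ← mul_inv_eq_iff_eq_mul, pow_two, mul_inv_rev]
    calc n * n * g * (n⁻¹ * n⁻¹) = n * (n * g * n⁻¹) * n⁻¹ := by group
      _ = (n * g * n⁻¹) ^ 7 := by rw [hn, ← MulAut.conj_apply, map_pow, MulAut.conj_apply, hn]
      _ = g := by rw [hn, ← pow_mul, show 7 * 7 = 49 by norm_num, h49]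
  have hnH : n ∈ H := by
    rcases (Nat.dvd_prime Nat.prime_three).mp hidx with e | e <;> rw [e] at h3
    · rwa [pow_one] at h3
    · have := H.mul_mem h3 (H.inv_mem h2)
      simpa [pow_succ, mul_assoc] using this
  rw [hH, Subgroup.mem_centralizer_singleton_iff] at hnH
  rw [hnH, mul_inv_cancel_right] at hn
  have h6 : orderOf g ∣ 6 := orderOf_dvd_of_pow_eq_one (by
    have h1 : g ^ 6 * g = 1 * g := by rw [← pow_succ, one_mul]; exact hn.symm
    exact mul_right_cancel h1)
  rw [hg] at h6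
  norm_num at h6

theorem cls_card_rest (h : Nat.card G = 443520) {c : ConjClasses G} (hc : c ∈ B.rest) :
    (cls (rep c)).card = 385 * wt c := by
  classical
  have hd : cord (rep c) ∣ 1152 := B.cord_dvd' h (mem_filter.mp hc).2
  have h1 := card_cls (rep c)
  rw [h] at h1
  refine Nat.eq_of_mul_eq_mul_right (Nat.pos_of_ne_zero fun h0 => ?_ : 0 < cord (rep c)) ?_
  · rw [h0] at hd
    norm_num at hd
  · rw [mul_assoc, wt, Nat.div_mul_cancel hd]
    exact h1.trans (by norm_num)

theorem wt_dvd (h : Nat.card G = 443520) {c : ConjClasses G} (hc : c ∈ B.rest) :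
    wt c ∣ 1152 := Nat.div_dvd_of_dvd (B.cord_dvd' h (Finset.mem_filter.mp hc).2)

theorem cnt_eq_wt (h : Nat.card G = 443520) {n : ℕ} (hn : n ∉ ({1, 2, 5, 7, 11} : Finset ℕ)) :
    Hist.cnt G n = 385 * ∑ c ∈ ofOrd G n, wt c := by
  classical
  rw [cnt_eq_sum, mul_sum]
  refine sum_congr rfl fun c hc => B.cls_card_rest h (mem_filter.mpr ⟨mem_univ _, ?_⟩)
  rw [(mem_filter.mp hc).2]
  exact hn

open Classical in
theorem three_data (h : Nat.card G = 443520) :
    Hist.cnt G 3 = 12320 ∧ (∀ g : G, orderOf g ≠ 9) ∧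
    ((B.rest.filter fun c => ¬ (ord c = 3 ∨ ord c = 9)).card = 4 ∧
      ∑ c ∈ B.rest.filter (fun c => ¬ (ord c = 3 ∨ ord c = 9)), wt c = 348) := by
  obtain ⟨hcard, hsum⟩ := B.rest_facts h
  rw [sum_congr rfl fun c hc => B.cls_card_rest h hc, ← mul_sum] at hsum
  set T := B.rest.filter fun c => ord c = 3 ∨ ord c = 9 with hT
  set R := B.rest.filter fun c => ¬ (ord c = 3 ∨ ord c = 9) with hR
  have e1 : T.card + R.card = 5 := hcard ▸ card_filter_add_card_filter_not _
  have e2 : ∑ c ∈ T, wt c + ∑ c ∈ R, wt c = 380 := by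
    rw [sum_filter_add_sum_filter_not]
    omega
  have hw : ∀ c ∈ T, wt c = 128 ∨ wt c = 32 := by
    intro c hc
    rw [hT, mem_filter] at hc
    rcases hc.2 with e | e
    · rcases B.cord_three h (g := rep c) e with e' | e' <;> rw [wt, e'] <;> norm_num
    · rw [wt, B.cord_nine h (g := rep c) e]; norm_num
  set a := (T.filter fun c => wt c = 128).card with ha
  set b := (T.filter fun c => ¬ wt c = 128).card with hb
  have eT : T.card = a + b := (card_filter_add_card_filter_not _).symm
  have eS : ∑ c ∈ T, wt c = 128 * a + 32 * b := by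
    rw [← sum_filter_add_sum_filter_not T (fun c => wt c = 128),
      sum_const_nat (m := 128) (fun c hc => (mem_filter.mp hc).2),
      sum_const_nat (m := 32) (fun c hc => (hw c (mem_filter.mp hc).1).resolve_left (mem_filter.mp hc).2)]
    rw [ha, hb]
    ring
  have hsplit : ofOrd G 3 ∪ ofOrd G 9 = T := by
    ext c
    simp only [hT, ofOrd, rest, mem_union, mem_filter, mem_univ, true_and]
    constructor
    · intro hc
      refine ⟨?_, hc⟩
      rcases hc with e | e <;> rw [e] <;> decide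
    · exact fun hc => hc.2
  have hdisj : Disjoint (ofOrd G 3) (ofOrd G 9) := by
    refine Finset.disjoint_left.mpr fun c hc3 hc9 => ?_
    have e3' : ord c = 3 := (mem_filter.mp hc3).2
    have e9' : ord c = 9 := (mem_filter.mp hc9).2
    omega
  have e3 : 9 ∣ 1 + 385 * (128 * a + 32 * b) := by
    have h1 := OrderCount.dvd_card_pow_eq_one (G := G) (n := 9) (by rw [h]; norm_num)
    rw [M22Nse57.Hist.card_pow_eq_one (by norm_num), show Nat.divisors 9 = {1, 3, 9} by decide,
      sum_insert (by norm_num), sum_pair (by norm_num), M22Nse57.Hist.cnt_one,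
      B.cnt_eq_wt h (by decide), B.cnt_eq_wt h (by decide), ← mul_add, ← sum_union hdisj, hsplit, eS] at h1
    exact h1
  have hne : ¬ (R.card = 1 ∧ ∑ c ∈ R, wt c = 60) := by
    rintro ⟨h1, h60⟩
    obtain ⟨x, hx⟩ := card_eq_one.mp h1
    have hd := B.wt_dvd h (mem_filter.mp (hx ▸ mem_singleton_self x : x ∈ R)).1
    rw [hx, sum_singleton] at h60
    rw [h60] at hd
    norm_num at hd
  have hRz : R.card = 0 → ∑ c ∈ R, wt c = 0 := fun h0 => by rw [card_eq_zero.mp h0, sum_empty]
  have hab : a = 0 ∧ b = 1 := by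
    have hb1 : a + b ≤ 4 := by
      by_contra hgt
      have := hRz (by omega)
      omega
    have hq : ((a = 0 ∧ b = 1) ∨ (a = 2 ∧ b = 2)) := by
      have h5 : (1 + 385 * (128 * a + 32 * b)) % 9 = 0 := Nat.mod_eq_zero_of_dvd e3
      omega
    rcases hq with hq | ⟨ha2, hb2⟩
    · exact hq
    · exact absurd ⟨by omega, by omega⟩ hne
  obtain ⟨x, hx⟩ : ∃ x : G, orderOf x = 3 := by
    haveI : Fact (Nat.Prime 3) := ⟨Nat.prime_three⟩
    exact exists_prime_orderOf_dvd_card' 3 (by rw [h]; norm_num)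
  obtain ⟨z, hz⟩ := card_eq_one.mp (show T.card = 1 by omega)
  have hxT : ConjClasses.mk x ∈ T := hsplit ▸ mem_union_left _ (mk_mem_ofOrd hx)
  have h9 : ofOrd G 9 = ∅ := by
    rw [eq_empty_iff_forall_notMem]
    intro c hc
    have hcT : c ∈ T := hsplit ▸ mem_union_right _ hc
    rw [hz, mem_singleton] at hxT hcT
    have hc9 : ord c = 9 := (mem_filter.mp hc).2
    rw [hcT, ← hxT, ord_mk, hx] at hc9
    omega
  refine ⟨?_, fun g hg => ?_, by omega, by omega⟩
  · rw [B.cnt_eq_wt h (by decide)]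
    rw [h9, union_empty] at hsplit
    rw [hsplit, eS, hab.1, hab.2]
  · have := mk_mem_ofOrd (G := G) hg
    rw [h9] at this
    simp at this

theorem mem_six_twelve (h : Nat.card G = 443520) {g : G} (hg : orderOf g = 6 ∨ orderOf g = 12) :
    ConjClasses.mk g ∈ B.rest := by
  classical
  refine mem_filter.mpr ⟨mem_univ _, ?_⟩
  rw [ord_mk]
  rcases hg with e | e <;> rw [e] <;> decide

theorem no_twelve (h : Nat.card G = 443520) (g : G) : orderOf g ≠ 12 := by
  classical
  intro hg
  obtain ⟨-, -, hRcard, hRsum⟩ := B.three_data h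
  set R := B.rest.filter fun c => ¬ (ord c = 3 ∨ ord c = 9) with hR
  set S := R.filter fun c => ord c = 6 ∨ ord c = 12 with hS
  set P := R.filter fun c => ¬ (ord c = 6 ∨ ord c = 12) with hP
  have e1 : S.card + P.card = 4 := hRcard ▸ card_filter_add_card_filter_not _
  have e2 : ∑ c ∈ S, wt c + ∑ c ∈ P, wt c = 348 := by
    rw [sum_filter_add_sum_filter_not, hRsum]
  have hw : ∀ c ∈ S, 96 ∣ wt c ∧ 96 ≤ wt c := by
    intro c hc
    rcases (mem_filter.mp hc).2 with e | e
    · rcases B.cord_six h (g := rep c) e with e' | e' <;> rw [wt, e'] <;> norm_num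
    · rw [wt, B.cord_twelve h (g := rep c) e]; norm_num
  have hmem : ∀ z : G, orderOf z = 6 ∨ orderOf z = 12 → ConjClasses.mk z ∈ S := by
    intro z hz
    refine mem_filter.mpr ⟨mem_filter.mpr ⟨B.mem_six_twelve h hz, ?_⟩, ?_⟩
    · rw [ord_mk]; omega
    · rw [ord_mk]; exact hz
  have h6 : orderOf (g ^ 2) = 6 := by rw [orderOf_pow_of_dvd (by norm_num) (by rw [hg]; norm_num), hg]
  have hg7 : orderOf (g ^ 7) = 12 := by rw [Nat.Coprime.orderOf_pow (by rw [hg]; norm_num), hg]
  have hsub : ({ConjClasses.mk (g ^ 2), ConjClasses.mk g, ConjClasses.mk (g ^ 7)} :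
      Finset (ConjClasses G)) ⊆ S := by
    intro c hc
    simp only [mem_insert, mem_singleton] at hc
    rcases hc with rfl | rfl | rfl
    · exact hmem _ (Or.inl h6)
    · exact hmem _ (Or.inr hg)
    · exact hmem _ (Or.inr hg7)
  have hne : ∀ z : G, orderOf z = 12 → ConjClasses.mk (g ^ 2) ≠ ConjClasses.mk z := fun z hz he => by
    have := orderOf_conj_eq (ConjClasses.mk_eq_mk_iff_isConj.mp he)
    omega
  have h3 : 3 ≤ S.card := by
    refine le_trans (le_of_eq ?_) (card_le_card hsub)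
    rw [card_insert_of_notMem (by simp [hne g hg, hne _ hg7]), card_insert_of_notMem (by
      rw [mem_singleton]
      exact fun he => B.not_conj_seven h hg (ConjClasses.mk_eq_mk_iff_isConj.mp he)), card_singleton]
  have h4 : S.card * 96 ≤ ∑ c ∈ S, wt c := card_nsmul_le_sum S wt 96 fun c hc => (hw c hc).2
  obtain ⟨k, hk⟩ : 96 ∣ ∑ c ∈ S, wt c := dvd_sum fun c hc => (hw c hc).1
  obtain ⟨z, hz⟩ := card_eq_one.mp (show P.card = 1 by omega)
  have hd := B.wt_dvd h (mem_filter.mp (mem_filter.mp (hz ▸ mem_singleton_self z : z ∈ P)).1).1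
  rw [hz, sum_singleton] at e2
  rw [show wt z = 60 by omega] at hd
  norm_num at hd

open Classical in
theorem six_data (h : Nat.card G = 443520) :
    Hist.cnt G 6 = 36960 ∧ (∀ g : G, ¬ 16 ∣ orderOf g) := by
  obtain ⟨-, h9, hRcard, hRsum⟩ := B.three_data h
  set R := B.rest.filter fun c => ¬ (ord c = 3 ∨ ord c = 9) with hR
  set S := R.filter fun c => ord c = 6 with hS
  set P := R.filter fun c => ¬ ord c = 6 with hP
  have e1 : S.card + P.card = 4 := hRcard ▸ card_filter_add_card_filter_not _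
  have e2 : ∑ c ∈ S, wt c + ∑ c ∈ P, wt c = 348 := by
    rw [sum_filter_add_sum_filter_not, hRsum]
  have hw : ∀ c ∈ S, 96 ∣ wt c ∧ 96 ≤ wt c := by
    intro c hc
    rcases B.cord_six h (g := rep c) (mem_filter.mp hc).2 with e' | e' <;> rw [wt, e'] <;> norm_num
  have hp : ∀ c ∈ P, ord c ∈ ({4, 8, 16, 32, 64, 128} : Finset ℕ) ∧ 9 ∣ wt c := by
    intro c hc
    obtain ⟨hcR, hc6⟩ := mem_filter.mp hc
    obtain ⟨hcE, hc39⟩ := mem_filter.mp hcR
    have ho := B.order_cases h (g := rep c) (mem_filter.mp hcE).2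
    have h12 := B.no_twelve h (rep c)
    have ho' : ord c ∈ ({4, 8, 16, 32, 64, 128} : Finset ℕ) := by
      simp only [mem_insert, mem_singleton] at ho ⊢
      simp only [ord] at hc39 hc6 ⊢
      omega
    refine ⟨ho', ?_⟩
    have hd := B.cord_dvd' h (g := rep c) (mem_filter.mp hcE).2
    have h3 : ¬ 3 ∣ cord (rep c) := fun h3d => by
      obtain ⟨z, hz⟩ := exists_orderOf_mul Nat.prime_three h3d (by
        simp only [mem_insert, mem_singleton, ord] at ho'
        rcases ho' with e | e | e | e | e | e <;> rw [e] <;> norm_num)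
      obtain ⟨w, hw12⟩ := exists_orderOf_dvd z (k := 12) (by
        rw [hz]
        simp only [mem_insert, mem_singleton, ord] at ho'
        rcases ho' with e | e | e | e | e | e <;> rw [e] <;> norm_num)
      exact B.no_twelve h w hw12
    have key : ∀ C, C < 1153 → C ∣ 1152 → ¬ 3 ∣ C → 9 ∣ 1152 / C := by decide +kernel
    exact key _ (Nat.lt_succ_of_le (Nat.le_of_dvd (by norm_num) hd)) hd h3
  have h4 : S.card * 96 ≤ ∑ c ∈ S, wt c := card_nsmul_le_sum S wt 96 fun c hc => (hw c hc).2
  obtain ⟨k, hk⟩ : 96 ∣ ∑ c ∈ S, wt c := dvd_sum fun c hc => (hw c hc).1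
  obtain ⟨m, hm⟩ : 9 ∣ ∑ c ∈ P, wt c := dvd_sum fun c hc => (hp c hc).2
  have hk1 : k = 1 := by omega
  subst hk1
  have hS1 : S.card ≠ 0 := fun h0 => by
    rw [card_eq_zero.mp h0, sum_empty] at hk
    omega
  refine ⟨?_, fun g hg => ?_⟩
  · have hS6 : ofOrd G 6 = S := by
      ext c
      simp only [hS, hR, ofOrd, rest, mem_filter, mem_univ, true_and]
      constructor
      · intro e
        rw [e]
        decide
      · exact fun e => e.2
    rw [B.cnt_eq_wt h (by decide), hS6, hk]
  · obtain ⟨z, hz⟩ := exists_orderOf_dvd g hg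
    have hmem : ∀ i ∈ ({0, 1, 2} : Finset ℕ), ConjClasses.mk (z ^ 2 ^ i) ∈ P ∧
        orderOf (z ^ 2 ^ i) = 16 / 2 ^ i := by
      intro i hi
      have ho : orderOf (z ^ 2 ^ i) = 16 / 2 ^ i := by
        simp only [mem_insert, mem_singleton] at hi
        rw [orderOf_pow_of_dvd (by positivity) (by rw [hz]; rcases hi with rfl | rfl | rfl <;> norm_num), hz]
      refine ⟨mem_filter.mpr ⟨mem_filter.mpr ⟨mem_filter.mpr ⟨mem_univ _, ?_⟩, ?_⟩, ?_⟩, ho⟩ <;>
        rw [ord_mk, ho] <;> simp only [mem_insert, mem_singleton] at hi <;>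
        rcases hi with rfl | rfl | rfl <;> decide
    have hinj : Set.InjOn (fun i => ConjClasses.mk (z ^ 2 ^ i)) ({0, 1, 2} : Finset ℕ) := by
      intro i hi j hj he
      have h1 := orderOf_conj_eq (ConjClasses.mk_eq_mk_iff_isConj.mp he)
      rw [(hmem i hi).2, (hmem j hj).2] at h1
      simp only [coe_insert, coe_singleton, Set.mem_insert_iff, Set.mem_singleton_iff] at hi hj
      rcases hi with rfl | rfl | rfl <;> rcases hj with rfl | rfl | rfl <;> first | rfl | norm_num at h1
    have hPeq : ({0, 1, 2} : Finset ℕ).image (fun i => ConjClasses.mk (z ^ 2 ^ i)) = P := by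
      refine eq_of_subset_of_card_le (fun c hc => ?_) ?_
      · obtain ⟨i, hi, rfl⟩ := mem_image.mp hc
        exact (hmem i hi).1
      · rw [card_image_of_injOn hinj]
        have : ({0, 1, 2} : Finset ℕ).card = 3 := rfl
        omega
    have hle : ∀ c ∈ P, wt c ≤ 72 := by
      rw [← hPeq]
      intro c hc
      obtain ⟨i, -, rfl⟩ := mem_image.mp hc
      rw [wt_mk]
      have h16 : 16 ∣ cord (z ^ 2 ^ i) := (hz ▸ orderOf_dvd_cord z).trans (cord_dvd_pow z _)
      exact (Nat.div_le_div_left (Nat.le_of_dvd Nat.card_pos h16) (by norm_num)).trans (by norm_num)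
    have h5 : ∑ c ∈ P, wt c ≤ P.card * 72 := sum_le_card_nsmul P wt 72 hle
    omega

/-- The counts of the Mathieu group. -/
theorem facts (h : Nat.card G = 443520) : M22Nse57.Facts G := by
  obtain ⟨h3, h9, -, -⟩ := B.three_data h
  obtain ⟨h6, h16⟩ := B.six_data h
  refine ⟨h, inferInstance, fun g => ?_, B.cnt_two h, h3, B.cnt_five h, h6, B.cnt_seven h,
    B.cnt_eleven h⟩
  by_cases hg : orderOf g ∈ ({1, 2, 5, 7, 11} : Finset ℕ)
  · simp only [mem_insert, mem_singleton] at hg ⊢
    omega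
  have h1 := B.order_cases h hg
  have h12 := B.no_twelve h g
  have h9' := h9 g
  have h16' := h16 g
  simp only [mem_insert, mem_singleton] at h1 ⊢
  omega

end Blocks3

theorem facts_of_card (h : Nat.card G = 443520) : M22Nse57.Facts G := by
  obtain ⟨B⟩ := exists_blocks (G := G) h
  exact B.facts h

end Cfsg.Agent.Lib.M22Order33
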