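import Cfsg.Agent.Lib.M22Order33.Rows
import Cfsg.Agent.Lib.Recog95040.Tools
import Cfsg.Agent.Lib.Blocks.ClassAlgebra

/-!
The pairs of conjugate involutions with product in a self-centralizing subgroup of prime order.
-/

set_option autoImplicit false
set_option linter.unusedSectionVars false
set_option linter.style.haveILetI false

namespace Cfsg.Agent.Lib.M22Order33

open scoped ComplexConjugate
open Cfsg Cfsg.Agent.Lib Finset
open Cfsg.Agent.Lib.BrauerReynolds Cfsg.Agent.Lib.BrauerTuan Cfsg.Agent.Lib.DefectOne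
open Cfsg.Agent.Lib.SmallGroups.PrimeChar (xp xp_add xp_zero fusion mem_fusion)

universe u

variable {G : Type u} [Group G] [Fintype G] [IsSimpleGroup G] {p : ℕ} [hp : Fact p.Prime]
  {D : Setting p G}

omit [IsSimpleGroup G] in
theorem xp_inv {x : G} (hx : orderOf x = p) (j : ZMod p) : (xp p x j)⁻¹ = xp p x (-j) :=
  inv_eq_of_mul_eq_one_right (by rw [← xp_add hx, add_neg_cancel, xp_zero])

omit [IsSimpleGroup G] in
/-- A fusion group of odd order does not contain `-1`. -/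
theorem neg_one_notMem (D : Setting p G) (hodd : p ≠ 2) (he : Odd D.e) :
    (-1 : ZMod p) ∉ fusion p D.S.x := by
  intro hneg
  have hmul : ∀ u ∈ fusion p D.S.x, -u ∈ fusion p D.S.x := fun u hu => by
    have := SmallGroups.PrimeChar.mul_mem_fusion D.S.order_x hneg hu
    rwa [neg_one_mul] at this
  have h := prod_nbij' (s := fusion p D.S.x) (t := fusion p D.S.x) (f := fun u => -u)
    (g := fun u => u) (fun u => -u) (fun u => -u) hmul hmul (fun u _ => neg_neg u)
    (fun u _ => neg_neg u) (fun u _ => rfl)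
  rw [prod_neg, D.fusion_card, he.neg_one_pow, neg_one_mul] at h
  have hne : ∏ u ∈ fusion p D.S.x, u ≠ 0 := prod_ne_zero_iff.mpr fun u hu =>
    SmallGroups.PrimeChar.ne_zero_of_mem_fusion D.S.order_x hu
  have h2 : (2 : ZMod p) * ∏ u ∈ fusion p D.S.x, u = 0 := by linear_combination -h
  rcases mul_eq_zero.mp h2 with h3 | h3
  · have h4 : ((2 : ℕ) : ZMod p) = 0 := by exact_mod_cast h3
    rw [ZMod.natCast_eq_zero_iff] at h4
    exact hodd ((Nat.prime_dvd_prime_iff_eq hp.out Nat.prime_two).mp h4)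
  · exact hne h3

open Classical in
/-- The conjugates of `t`. -/
noncomputable def cls (t : G) : Finset G := univ.filter fun g => IsConj t g

omit [IsSimpleGroup G] in
theorem conj_mem_cls (t : G) (g : G) : ∀ a ∈ cls t, g * a * g⁻¹ ∈ cls t := by
  classical
  intro a ha
  rw [cls, mem_filter] at ha ⊢
  exact ⟨mem_univ _, ha.2.trans (isConj_iff.mpr ⟨g, rfl⟩)⟩

omit [IsSimpleGroup G] in
theorem card_cls (t : G) :
    (cls t).card * Nat.card (Subgroup.centralizer ({t} : Set G)) = Nat.card G := by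
  classical
  rw [← (Subgroup.centralizer ({t} : Set G)).card_mul_index, ← Blocks.natCard_isConj t, mul_comm,
    cls, ← Fintype.card_subtype, Nat.card_eq_fintype_card (α := {x : G // IsConj t x})]

omit [IsSimpleGroup G] in
theorem sum_cls {t : G} (ht : orderOf t = 2) (χ : IrrCharacter G) :
    ∑ a ∈ cls t, (χ : G → ℂ) a = ((cls t).card : ℂ) * (iv χ t : ℂ) := by
  classical
  rw [sum_congr rfl fun a ha => ?_, sum_const, nsmul_eq_mul]
  rw [cls, mem_filter] at ha
  obtain ⟨g, hg⟩ := isConj_iff.mp ha.2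
  rw [← hg, Chars.irr_isClassFunction χ, iv_spec χ ht]

/-- The pairs of conjugates of `t` with product `c`. -/
noncomputable def pairs (t c : G) : ℕ := by
  classical exact (((cls t) ×ˢ (cls t)).filter fun z => z.1 * z.2 = c).card

namespace Blk

variable (K : Blk D)

omit [IsSimpleGroup G] in
theorem sum_apply_inv (hV : D.S.V = ⊥) (f : IrrCharacter G → ℂ) {j : ZMod p} (hj : j ≠ 0) :
    ∑ χ : IrrCharacter G, f χ * (χ : G → ℂ) (xp p D.S.x j) =
      f (Chars.trivialIrr G) + ∑ χ ∈ K.A, f χ * K.δ χ +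
        ∑ θ ∈ K.B, f θ * (θ : G → ℂ) (xp p D.S.x j) := by
  classical
  rw [← sum_subset (subset_univ (insert (Chars.trivialIrr G) (K.A ∪ K.B))) fun χ _ hχ => by
    rw [mem_insert, not_or] at hχ
    rw [K.vanish hV χ hχ.1 hχ.2 j hj, mul_zero],
    sum_insert K.triv_notMem, sum_union K.disj, Chars.trivialIrr_apply, mul_one, ← add_assoc,
    sum_congr rfl (s₁ := K.A) fun χ hχ => by rw [K.applyA χ hχ j hj]]

theorem sum_pairs (h : Nat.card G = 443520) (hV : D.S.V = ⊥) (hodd : p ≠ 2) (Λ : Listing K)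
    {t : G} (ht : orderOf t = 2) :
    ((∑ j ∈ (univ : Finset (ZMod p)).erase 0, pairs t (xp p D.S.x j) : ℕ) : ℤ) *
      ((Nat.card (Subgroup.centralizer ({t} : Set G)) : ℤ) *
        Nat.card (Subgroup.centralizer ({t} : Set G))) =
      ((p : ℤ) - 1) * Check.quad p D.e (Λ.row t) := by
  classical
  set C := Nat.card (Subgroup.centralizer ({t} : Set G)) with hC
  set I := (cls t).card with hI
  have hIC : (I : ℂ) * C = 443520 := by
    have := card_cls t
    rw [h] at this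
    exact_mod_cast this
  have hCz : (C : ℂ) ≠ 0 := Nat.cast_ne_zero.mpr Nat.card_pos.ne'
  have hIz : (I : ℂ) ≠ 0 := fun h0 => by rw [h0, zero_mul] at hIC; norm_num at hIC
  set f : IrrCharacter G → ℂ := fun χ => (iv χ t : ℂ) * (iv χ t : ℂ) / (degOf χ : ℂ) with hf
  -- the sum over the powers
  have hsum : ∑ j ∈ (univ : Finset (ZMod p)).erase 0,
      ∑ χ : IrrCharacter G, f χ * (χ : G → ℂ) (xp p D.S.x j) =
      ((p : ℂ) - 1) * (1 + ∑ χ ∈ K.A, f χ * K.δ χ - (K.ε : ℂ) * f Λ.θ) := by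
    rw [sum_congr rfl fun j hj => K.sum_apply_inv hV f (ne_of_mem_erase hj), sum_add_distrib,
      sum_const, card_erase_of_mem (mem_univ _), card_univ, ZMod.card, sum_comm,
      sum_congr rfl (s₁ := K.B) fun θ hθ => by rw [← mul_sum, K.sumB θ hθ]]
    have hfB : ∀ θ ∈ K.B, f θ = f Λ.θ := fun θ hθ => by
      simp only [hf, K.iv_eq hodd ht hθ Λ.θ_mem, K.deg_eq hθ Λ.θ_mem]
    rw [sum_congr rfl (s₁ := K.B) fun θ hθ => by rw [hfB θ hθ], sum_const (s := K.B), K.cardB, nsmul_eq_mul, nsmul_eq_mul,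
      Nat.cast_sub hp.out.pos, Nat.cast_one]
    have hone : f (Chars.trivialIrr G) = 1 := by simp [hf, iv_trivial ht, degOf_trivial]
    have het : (D.t : ℂ) * D.e = (p : ℂ) - 1 := by
      rw [← Nat.cast_mul, mul_comm, D.het, Nat.cast_sub hp.out.pos, Nat.cast_one]
    rw [hone]
    linear_combination -(K.ε : ℂ) * f Λ.θ * het
  have hquad : ((Check.quad p D.e (Λ.row t) : ℤ) : ℂ) =
      443520 * (1 + ∑ χ ∈ K.A, f χ * K.δ χ - (K.ε : ℂ) * f Λ.θ) := by
    have hd : ∀ χ : IrrCharacter G, ((443520 / degOf χ : ℕ) : ℂ) = 443520 / (degOf χ : ℂ) :=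
      fun χ => by
        rw [Nat.cast_div (degOf_dvd h χ) (Nat.cast_ne_zero.mpr (degOf_pos χ).ne')]
        norm_num
    simp only [Check.quad, Listing.row, List.map_map, Λ.sum_map, Function.comp_def, pr,
      Int.cast_add, Int.cast_sub, Int.cast_mul, Int.cast_sum, Int.cast_natCast, Int.cast_ofNat, hd,
      K.eps_eq hodd Λ.θ_mem]
    rw [sum_congr rfl fun χ hχ => show (Check.sgn p (degOf χ) : ℂ) * ((iv χ t : ℂ) * (iv χ t : ℂ)) *
        (443520 / (degOf χ : ℂ)) = 443520 * (f χ * K.δ χ) by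
      simp only [hf, K.sgn_eq hodd hχ]; ring, ← mul_sum]
    simp only [hf]
    ring
  apply Int.cast_injective (α := ℂ)
  push_cast
  rw [hquad]
  have hpair : ∀ j ∈ (univ : Finset (ZMod p)).erase 0, (pairs t (xp p D.S.x j) : ℂ) * (C * C) =
      443520 * ∑ χ : IrrCharacter G, f χ * (χ : G → ℂ) (xp p D.S.x (-j)) := by
    intro j _
    have h1 := Recog95040.card_pairs_mul (cls t) (cls t) (conj_mem_cls t) (conj_mem_cls t)
      (xp p D.S.x j)
    rw [sum_congr rfl fun χ _ => by rw [sum_cls ht χ, xp_inv D.S.order_x, apply_one_eq_degOf],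
      h] at h1
    have h2 : (443520 : ℂ) * (pairs t (xp p D.S.x j) : ℂ) =
        (I : ℂ) * I * ∑ χ : IrrCharacter G, f χ * (χ : G → ℂ) (xp p D.S.x (-j)) := by
      rw [mul_sum]
      refine Eq.trans ?_ (h1.trans (sum_congr rfl fun χ _ => by simp only [hf, hI]; ring))
      unfold pairs
      norm_num
    refine mul_left_cancel₀ (mul_ne_zero hIz hIz) ?_
    linear_combination (((I : ℂ) * C + 443520) * (pairs t (xp p D.S.x j) : ℂ)) * hIC +
      (443520 : ℂ) * h2
  rw [sum_mul, sum_congr rfl hpair, ← mul_sum,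
    sum_nbij' (s := (univ : Finset (ZMod p)).erase 0) (t := (univ : Finset (ZMod p)).erase 0)
      (f := fun j => ∑ χ : IrrCharacter G, f χ * (χ : G → ℂ) (xp p D.S.x (-j)))
      (g := fun j => ∑ χ : IrrCharacter G, f χ * (χ : G → ℂ) (xp p D.S.x j)) (fun j => -j) (fun j => -j)
      (fun j hj => mem_erase.mpr ⟨neg_ne_zero.mpr (ne_of_mem_erase hj), mem_univ _⟩)
      (fun j hj => mem_erase.mpr ⟨neg_ne_zero.mpr (ne_of_mem_erase hj), mem_univ _⟩)
      (fun j _ => neg_neg j) (fun j _ => neg_neg j) (fun j _ => rfl), hsum]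
  ring

omit [IsSimpleGroup G] in
theorem pairs_eq_zero (hodd : p ≠ 2) (he : Odd D.e) {t : G} (ht : orderOf t = 2) {j : ZMod p}
    (hj : j ≠ 0) : pairs t (xp p D.S.x j) = 0 := by
  classical
  unfold pairs
  rw [card_eq_zero, filter_eq_empty_iff]
  rintro ⟨a, b⟩ hab hc
  rw [mem_product] at hab
  have hsq : ∀ g ∈ cls t, g * g = 1 := by
    intro g hg
    rw [cls, mem_filter] at hg
    obtain ⟨c, rfl⟩ := isConj_iff.mp hg.2
    rw [show c * t * c⁻¹ * (c * t * c⁻¹) = c * (t * t) * c⁻¹ by group, mul_self_eq_one ht]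
    group
  dsimp only at hc
  have hinv : a * xp p D.S.x j * a⁻¹ = (xp p D.S.x j)⁻¹ := by
    rw [← hc, mul_inv_rev, inv_eq_of_mul_eq_one_right (hsq a hab.1),
      inv_eq_of_mul_eq_one_right (hsq b hab.2), ← mul_assoc a a b, hsq a hab.1, one_mul]
  rw [xp_inv D.S.order_x] at hinv
  obtain ⟨u, hu, huj⟩ := (SmallGroups.PrimeChar.isConj_xp_iff D.S.order_x hj).mp
    (isConj_iff.mpr ⟨a, hinv⟩)
  have : u = -1 := mul_right_cancel₀ hj (by rw [huj, neg_one_mul])
  exact neg_one_notMem D hodd he (this ▸ hu)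

theorem quad_eq_zero (h : Nat.card G = 443520) (hV : D.S.V = ⊥) (hodd : p ≠ 2) (he : Odd D.e)
    (Λ : Listing K) {t : G} (ht : orderOf t = 2) : Check.quad p D.e (Λ.row t) = 0 := by
  have h1 := K.sum_pairs h hV hodd Λ ht
  rw [sum_eq_zero fun j hj => pairs_eq_zero hodd he ht (ne_of_mem_erase hj), Nat.cast_zero,
    zero_mul, eq_comm, mul_eq_zero] at h1
  refine h1.resolve_left fun h2 => ?_
  have := hp.out.two_le
  omega

theorem pairs_const (ht1 : D.t = 1) {t : G} {j : ZMod p} (hj : j ≠ 0) :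
    pairs t (xp p D.S.x j) = pairs t D.S.x := by
  classical
  have hj' : j ∈ fusion p D.S.x := by
    have hfus : fusion p D.S.x = (univ : Finset (ZMod p)).erase 0 := by
      refine eq_of_subset_of_card_le (fun u hu => mem_erase.mpr
        ⟨SmallGroups.PrimeChar.ne_zero_of_mem_fusion D.S.order_x hu, mem_univ u⟩) ?_
      rw [card_erase_of_mem (mem_univ _), card_univ, ZMod.card, D.fusion_card, ← D.het, ht1, mul_one]
    rw [hfus]
    exact mem_erase.mpr ⟨hj, mem_univ _⟩
  obtain ⟨g, hg⟩ := isConj_iff.mp (mem_fusion.mp hj')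
  rw [← hg]
  unfold pairs
  refine card_bij' (fun z _ => (g⁻¹ * z.1 * g, g⁻¹ * z.2 * g))
    (fun z _ => (g * z.1 * g⁻¹, g * z.2 * g⁻¹)) ?_ ?_ ?_ ?_
  · intro z hz
    simp only [mem_filter, mem_product] at hz ⊢
    refine ⟨⟨by simpa using conj_mem_cls t g⁻¹ _ hz.1.1, by simpa using conj_mem_cls t g⁻¹ _ hz.1.2⟩, ?_⟩
    rw [show g⁻¹ * z.1 * g * (g⁻¹ * z.2 * g) = g⁻¹ * (z.1 * z.2) * g by group, hz.2]
    group
  · intro z hz
    simp only [mem_filter, mem_product] at hz ⊢
    refine ⟨⟨conj_mem_cls t g _ hz.1.1, conj_mem_cls t g _ hz.1.2⟩, ?_⟩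
    rw [show g * z.1 * g⁻¹ * (g * z.2 * g⁻¹) = g * (z.1 * z.2) * g⁻¹ by group, hz.2]
  · intro z _
    simp only [Prod.ext_iff]
    constructor <;> group
  · intro z _
    simp only [Prod.ext_iff]
    constructor <;> group

theorem quad_dvd (h : Nat.card G = 443520) (hV : D.S.V = ⊥) (hodd : p ≠ 2) (ht1 : D.t = 1)
    (Λ : Listing K) {t : G} (ht : orderOf t = 2) :
    ((Nat.card (Subgroup.centralizer ({t} : Set G)) : ℤ) *
        Nat.card (Subgroup.centralizer ({t} : Set G))) ∣ Check.quad p D.e (Λ.row t) ∧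
      0 ≤ Check.quad p D.e (Λ.row t) := by
  have h1 := K.sum_pairs h hV hodd Λ ht
  rw [sum_congr rfl fun j hj => pairs_const ht1 (ne_of_mem_erase hj), sum_const,
    card_erase_of_mem (mem_univ _), card_univ, ZMod.card, smul_eq_mul, Nat.cast_mul,
    Nat.cast_sub hp.out.pos, Nat.cast_one, mul_assoc] at h1
  have h2 := mul_left_cancel₀ (show (p : ℤ) - 1 ≠ 0 by have := hp.out.two_le; omega) h1
  rw [← h2]
  exact ⟨Dvd.intro_left _ rfl, by positivity⟩

end Blk

end Cfsg.Agent.Lib.M22Order33
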