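import Cfsg.Agent.Lib.M22Order33.Eleven
import Cfsg.Agent.Lib.M22Order33.Quad
import Cfsg.Agent.Lib.M22Order33.BadTwo

/-!
The rows of the three blocks pass the tests of the checker.
-/

set_option autoImplicit false
set_option linter.unusedSectionVars false
set_option linter.style.haveILetI false

namespace Cfsg.Agent.Lib.M22Order33

open scoped ComplexConjugate
open Cfsg Cfsg.Agent.Lib Finset
open Cfsg.Agent.Lib.BrauerReynolds Cfsg.Agent.Lib.BrauerTuan Cfsg.Agent.Lib.DefectOne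

universe u

variable {G : Type u} [Group G] [Fintype G] [IsSimpleGroup G] [Fact (Nat.Prime 11)]

/-- The centralizer order of an element. -/
noncomputable abbrev cord (t : G) : ℕ := Nat.card (Subgroup.centralizer ({t} : Set G))

theorem Base.all11_spec (h : Nat.card G = 443520) (b : Base G) {t : G} (ht : orderOf t = 2)
    (hC : cord t ≤ 40320) {f : Check.Row → Bool} (hall : Check.all11 (cord t) b.Λ.pat f = true) :
    f (b.Λ.row t) = true := by
  unfold Check.all11 at hall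
  have h1 := Blk.Listing.row_spec h (by norm_num) b.Λ ht rfl hC b.e_eq.symm b.t_eq.symm
    (fun χ hχ => Check.mem_cand hC (okVal_iv h (b.K.ne_trivial (mem_union_left _ hχ)) ht))
    (fun θ hθ => okVal_iv h (b.K.ne_trivial (mem_union_right _ hθ)) ht) hall
  have h2 := b.K.quad_eq_zero h b.V_bot (by norm_num) (by rw [b.e_eq]; decide) b.Λ ht
  rw [b.e_eq] at h2
  rw [h2, beq_self_eq_true, cond_true] at h1
  exact h1

theorem Base.mem_eleven (b : Base G) {χ : IrrCharacter G} (hne : χ ≠ Chars.trivialIrr G)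
    (h11 : degOf χ % 11 ≠ 0) : χ ∈ b.K.A ∪ b.K.B := by
  by_contra hc
  exact h11 (Nat.mod_eq_zero_of_dvd (b.K.dvd_of_notMem b.V_bot hne hc))

theorem Base.not_mem_of_dvd (b : Base G) {χ : IrrCharacter G} (h11 : degOf χ % 11 = 0) :
    χ ∉ b.K.A ∪ b.K.B := fun hc => b.K.not_dvd_deg hc (Nat.dvd_of_mod_eq_zero h11)

variable {p : ℕ} [Fact p.Prime] {D : Setting p G}

theorem Base.vals_spec (h : Nat.card G = 443520) (b : Base G) (K : Blk D) {t : G}
    (ht : orderOf t = 2) (hC : cord t ≤ 40320) {χ : IrrCharacter G} (hχ : χ ∈ K.A ∪ K.B) :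
    iv χ t ∈ Check.valsIn (cord t) (Check.mem 2 (b.Λ.row t)) (degOf χ) ∧
      Check.okIn (cord t) (Check.mem 2 (b.Λ.row t)) (degOf χ) (iv χ t) = true := by
  classical
  have hne := K.ne_trivial hχ
  have hok := okVal_iv h hne ht
  by_cases h11 : degOf χ % 11 = 0
  · simp only [Check.valsIn, Check.okIn, h11, if_true]
    exact ⟨Check.mem_cand hC hok, by simp only [cord, hok, beq_self_eq_true, Bool.true_or, Bool.and_self]⟩
  have hmem : ((degOf χ, iv χ t) : Check.Pr) ∈ Check.mem 2 (b.Λ.row t) := by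
    rw [← Multiset.mem_coe, b.Λ.coe_mem (by norm_num) ht b.t_eq.symm]
    exact Multiset.mem_map_of_mem _ (b.mem_eleven hne h11)
  refine ⟨?_, ?_⟩
  · simp only [Check.valsIn, if_neg h11, List.mem_map, List.mem_filter, beq_iff_eq]
    exact ⟨_, ⟨hmem, rfl⟩, rfl⟩
  · simp only [Check.okIn, hok, Bool.true_and, Bool.or_eq_true, List.contains_iff_mem]
    exact Or.inr hmem

theorem Base.sub_eleven (b : Base G) (K : Blk D) (Λ : Blk.Listing K) (hodd : p ≠ 2) {t : G}
    (ht : orderOf t = 2) {k : ℕ} (hk : k = D.t) :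
    Check.subList ((Check.mem k (Λ.row t)).filter fun x => decide (x.1 % 11 ≠ 0))
      (Check.mem 2 (b.Λ.row t)) = true := by
  classical
  refine subList_of_subset (pr t)
    (S := (K.A ∪ K.B).filter fun χ => decide ((pr t χ).1 % 11 ≠ 0) = true) ?_
    (coe_filter_map (pr t) _ _ _ (Λ.coe_mem hodd ht hk))
    (b.Λ.coe_mem (by norm_num) ht b.t_eq.symm)
  intro χ hχ
  replace hχ := And.intro (mem_filter.mp hχ).1 (of_decide_eq_true (mem_filter.mp hχ).2)
  try simp only [pr] at hχ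
  try rw [S.p_eq] at hχ
  exact b.mem_eleven (K.ne_trivial hχ.1) hχ.2

theorem Base.mem_patsOpt (b : Base G) (K : Blk D) (Λ : Blk.Listing K) {o : Check.Opt}
    (ht : o.t = D.t) {ps : List Check.Pat} (hmem : Λ.pat ∈ ps) :
    Λ.pat ∈ Check.patsOpt o ps b.Λ.pat := by
  classical
  simp only [Check.patsOpt, List.mem_filter]
  refine ⟨hmem, subList_of_subset degOf
    (S := (K.A ∪ K.B).filter fun χ => decide (degOf χ % 11 ≠ 0) = true) ?_
    (coe_filter_map degOf _ _ _ (Λ.coe_degs ht)) (b.Λ.coe_degs b.t_eq.symm)⟩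
  intro χ hχ
  replace hχ := And.intro (mem_filter.mp hχ).1 (of_decide_eq_true (mem_filter.mp hχ).2)
  try simp only [pr] at hχ
  try rw [S.p_eq] at hχ
  exact b.mem_eleven (K.ne_trivial hχ.1) hχ.2

/-- The pattern of a block in the list of an option. -/
theorem Base.exists_listing (h : Nat.card G = 443520) (b : Base G) (K : Blk D) (hodd : p ≠ 2)
    {o : Check.Opt} (hp : o.p = p) (he : o.e = D.e) (ht : o.t = D.t)
    (hM : D.e * (1 + D.n * p) ∣ o.M) (hbad : ∀ χ ∈ K.A ∪ K.B, degOf χ ∉ o.bad) :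
    ∃ Λ : Blk.Listing K, Λ.pat ∈ Check.patsAll o := by
  obtain ⟨Λ, hΛ⟩ := K.exists_listing h hodd (M := o.M) (bad := o.bad)
    (pool := (Check.poolA p o.M o.bad).filter Check.ok11) he ht hM hbad
    (fun d hd ⟨χ, hχ, hdχ⟩ => List.mem_filter.mpr
      ⟨hd, hdχ ▸ b.ok11_degOf (K.ne_trivial (mem_union_left _ hχ))⟩)
  refine ⟨Λ, ?_⟩
  simp only [Check.patsAll, List.mem_filter, hp]
  exact ⟨hΛ, b.ok11_degOf (K.ne_trivial (mem_union_right _ Λ.θ_mem))⟩

/-- A self-centralizing element of order five or seven. -/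
structure SelfData (b : Base G) (o : Check.Opt) (ps : List Check.Pat) where
  D : Setting p G
  V_bot : D.S.V = ⊥
  p_eq : o.p = p
  e_eq : o.e = D.e
  t_eq : o.t = D.t
  case : (p = 7 ∧ D.e = 3) ∨ (p = 5 ∧ D.e = 4 ∧ D.t = 1)
  K : Blk D
  Λ : Blk.Listing K
  pat_mem : Λ.pat ∈ ps

namespace SelfData

variable {b : Base G} {o : Check.Opt} {ps : List Check.Pat}

theorem odd (S : SelfData (p := p) b o ps) : p ≠ 2 := by
  rcases S.case with ⟨rfl, -⟩ | ⟨rfl, -⟩ <;> norm_num

theorem pat_mem_self (S : SelfData (p := p) b o ps) :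
    S.Λ.pat ∈ Check.patsSelf o ps b.Λ.pat := by
  classical
  simp only [Check.patsSelf, List.mem_filter]
  refine ⟨b.mem_patsOpt S.K S.Λ S.t_eq S.pat_mem, subList_of_subset degOf
    (S := (b.K.A ∪ b.K.B).filter fun χ => decide (degOf χ % o.p ≠ 0) = true) ?_
    (coe_filter_map degOf _ _ _ (b.Λ.coe_degs b.t_eq.symm)) (S.Λ.coe_degs S.t_eq)⟩
  intro χ hχ
  replace hχ := And.intro (mem_filter.mp hχ).1 (of_decide_eq_true (mem_filter.mp hχ).2)
  try simp only [pr] at hχ
  try rw [S.p_eq] at hχ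
  by_contra hc
  exact hχ.2 (Nat.mod_eq_zero_of_dvd (S.K.dvd_of_notMem S.V_bot (b.K.ne_trivial hχ.1) hc))

theorem all_spec (h : Nat.card G = 443520) (S : SelfData (p := p) b o ps) {t : G}
    (ht : orderOf t = 2) (hC : cord t ≤ 40320) {f : Check.Row → Bool}
    (hall : Check.allSelf o (cord t) (Check.mem 2 (b.Λ.row t)) S.Λ.pat f = true) :
    f (S.Λ.row t) = true := by
  classical
  unfold Check.allSelf at hall
  rw [S.p_eq] at hall
  have h1 := Blk.Listing.row_spec h S.odd S.Λ ht rfl hC S.e_eq S.t_eq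
    (fun χ hχ => (b.vals_spec h S.K ht hC (mem_union_left _ hχ)).1)
    (fun θ hθ => (b.vals_spec h S.K ht hC (mem_union_right _ hθ)).2) hall
  have h2 : Check.subList ((Check.mem 2 (b.Λ.row t)).filter fun x => decide (x.1 % p ≠ 0))
      (Check.mem o.t (S.Λ.row t)) = true := by
    refine subList_of_subset (pr t)
      (S := (b.K.A ∪ b.K.B).filter fun χ => decide ((pr t χ).1 % p ≠ 0) = true) ?_
      (coe_filter_map (pr t) _ _ _ (b.Λ.coe_mem (by norm_num) ht b.t_eq.symm))
      (S.Λ.coe_mem S.odd ht S.t_eq)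
    intro χ hχ
    replace hχ := And.intro (mem_filter.mp hχ).1 (of_decide_eq_true (mem_filter.mp hχ).2)
    try simp only [pr] at hχ
    try rw [S.p_eq] at hχ
    by_contra hc
    exact hχ.2 (Nat.mod_eq_zero_of_dvd (S.K.dvd_of_notMem S.V_bot (b.K.ne_trivial hχ.1) hc))
  have h3 := b.sub_eleven S.K S.Λ S.odd ht S.t_eq
  have h4 : Check.quadOK p (cord t) (S.Λ.row t) = true := by
    unfold Check.quadOK
    rcases S.case with ⟨hp7, he⟩ | ⟨hp5, he, ht1⟩
    · have hq := S.K.quad_eq_zero h S.V_bot S.odd (by rw [he]; decide) S.Λ ht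
      rw [he] at hq
      subst hp7
      rw [if_pos rfl, hq, beq_self_eq_true]
    · obtain ⟨hq1, hq2⟩ := S.K.quad_dvd h S.V_bot S.odd ht1 S.Λ ht
      rw [he] at hq1 hq2
      subst hp5
      rw [if_neg (by norm_num)]
      simp only [Bool.and_eq_true, decide_eq_true_eq]
      exact ⟨Int.emod_eq_zero_of_dvd (by push_cast; exact hq1), hq2⟩
  rw [h4, h2, h3, Bool.and_self, Bool.and_self, cond_true] at h1
  exact h1

end SelfData

/-- The data of an option with an involution centralizing the element. -/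
structure OptData (b : Base G) (o : Check.Opt) (ps : List Check.Pat) where
  D : Setting p G
  odd : p ≠ 2
  p_eq : o.p = p
  e_eq : o.e = D.e
  t_eq : o.t = D.t
  K : Blk D
  Λ : Blk.Listing K
  pat_mem : Λ.pat ∈ ps
  v : G
  v_mem : v ∈ D.S.V
  v_two : orderOf v = 2
  cord_mem : cord v ∈ o.Cs
  cord_le : cord v ≤ 40320

namespace OptData

variable {b : Base G} {o : Check.Opt} {ps : List Check.Pat}

theorem all_spec (h : Nat.card G = 443520) (O : OptData (p := p) b o ps) {f : Check.Row → Bool}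
    (hall : Check.allOpt o (cord O.v) (Check.mem 2 (b.Λ.row O.v)) O.Λ.pat f = true) :
    f (O.Λ.row O.v) = true := by
  unfold Check.allOpt at hall
  rw [O.p_eq] at hall
  have hcong : ∀ χ ∈ O.K.A ∪ O.K.B, Check.congOK p (degOf χ) (iv χ O.v) = true := by
    intro χ hχ
    simp only [Check.congOK, beq_iff_eq]
    exact Int.emod_eq_zero_of_dvd (O.K.congr_iv hχ O.v_mem O.v_two)
  have h1 := Blk.Listing.row_spec h O.odd O.Λ O.v_two rfl O.cord_le O.e_eq O.t_eq
    (fun χ hχ => List.mem_filter.mpr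
      ⟨(b.vals_spec h O.K O.v_two O.cord_le (mem_union_left _ hχ)).1, hcong χ (mem_union_left _ hχ)⟩)
    (fun θ hθ => by
      rw [Bool.and_eq_true]
      exact ⟨hcong θ (mem_union_right _ hθ),
        (b.vals_spec h O.K O.v_two O.cord_le (mem_union_right _ hθ)).2⟩) hall
  rw [b.sub_eleven O.K O.Λ O.odd O.v_two O.t_eq, cond_true] at h1
  exact h1

theorem noRow_false (h : Nat.card G = 443520) (O : OptData (p := p) b o ps) :
    Check.noRow o ps b.Λ.pat = false := by
  rw [← Bool.not_eq_true]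
  intro hno
  simp only [Check.noRow, Bool.or_eq_true, List.isEmpty_iff, List.all_eq_true] at hno
  rcases hno with hno | hno
  · exact List.not_mem_nil (hno ▸ b.mem_patsOpt O.K O.Λ O.t_eq O.pat_mem)
  · exact Bool.false_ne_true
      (b.all11_spec h O.v_two O.cord_le (f := fun _ => false) (hno _ O.cord_mem))

end OptData

variable {q : ℕ} [Fact q.Prime]

/-- The union of the three blocks and the inequality on the remaining characters. -/
theorem Base.union_spec (h : Nat.card G = 443520) (b : Base G) {o o' : Check.Opt}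
    {ps : List Check.Pat} (S : SelfData (p := q) b o ps) (K : Blk D) (Λ : Blk.Listing K)
    (hodd : p ≠ 2) (hq : q ≠ 11) (ht' : o'.t = D.t) {t : G} (ht : orderOf t = 2) :
    ∃ U : Finset (IrrCharacter G), Chars.trivialIrr G ∉ U ∧
      (↑(Check.union o o' (Check.mem 2 (b.Λ.row t)) (S.Λ.row t) (Λ.row t)) : Multiset Check.Pr) =
        U.val.map (pr t) ∧
      b.K.A ∪ b.K.B ⊆ U ∧
      (∀ χ ∈ S.K.A ∪ S.K.B, degOf χ % 11 = 0 → χ ∈ U) ∧
      (∀ χ ∈ K.A ∪ K.B, degOf χ % 11 = 0 → degOf χ % q = 0 → χ ∈ U) ∧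
      (∀ χ, χ ≠ Chars.trivialIrr G → χ ∉ U → 11 * q ∣ degOf χ) ∧
      (∀ χ, χ ∉ U → χ ∈ K.A ∪ K.B → degOf χ % q ≠ 0 ∨ degOf χ % 11 ≠ 0) ∧
      Check.restOK (cord t) (11 * o.p)
        (Check.union o o' (Check.mem 2 (b.Λ.row t)) (S.Λ.row t) (Λ.row t)) = true := by
  classical
  set X1 := b.K.A ∪ b.K.B
  set X2 := (S.K.A ∪ S.K.B).filter fun χ => decide ((pr t χ).1 % 11 = 0) = true with hX2
  set X3 := (K.A ∪ K.B).filter fun χ =>
    (decide ((pr t χ).1 % 11 = 0) && decide ((pr t χ).1 % o.p = 0)) = true with hX3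
  have hd12 : Disjoint X1 X2 := disjoint_left.mpr fun χ h1 h2 => by
    obtain ⟨-, h2b⟩ := mem_filter.mp h2
    exact b.not_mem_of_dvd (of_decide_eq_true h2b) h1
  have hd3 : Disjoint (X1.disjUnion X2 hd12) X3 := disjoint_left.mpr fun χ h1 h2 => by
    obtain ⟨-, h2b⟩ := mem_filter.mp h2
    obtain ⟨h2c, h2d⟩ := (Bool.and_eq_true _ _).mp h2b
    have h2d' : degOf χ % o.p = 0 := of_decide_eq_true h2d
    rcases mem_disjUnion.mp h1 with h1 | h1
    · exact b.not_mem_of_dvd (of_decide_eq_true h2c) h1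
    · rw [S.p_eq] at h2d'
      exact S.K.not_dvd_deg (mem_filter.mp h1).1 (Nat.dvd_of_mod_eq_zero h2d')
  set U := (X1.disjUnion X2 hd12).disjUnion X3 hd3 with hU
  set l := Check.union o o' (Check.mem 2 (b.Λ.row t)) (S.Λ.row t) (Λ.row t) with hl
  have hcoe : (↑l : Multiset Check.Pr) = U.val.map (pr t) := by
    rw [hl, Check.union, ← Multiset.coe_add, ← Multiset.coe_add, hU, disjUnion_val, disjUnion_val,
      Multiset.map_add, Multiset.map_add, b.Λ.coe_mem (by norm_num) ht b.t_eq.symm,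
      coe_filter_map (pr t) _ _ _ (S.Λ.coe_mem S.odd ht S.t_eq),
      coe_filter_map (pr t) _ _ _ (Λ.coe_mem hodd ht ht')]
  have hsub1 : X1 ⊆ U := fun χ hχ => mem_disjUnion.mpr (Or.inl (mem_disjUnion.mpr (Or.inl hχ)))
  have hsub2 : ∀ χ ∈ S.K.A ∪ S.K.B, degOf χ % 11 = 0 → χ ∈ U := fun χ hχ h11 =>
    mem_disjUnion.mpr (Or.inl (mem_disjUnion.mpr (Or.inr
      (mem_filter.mpr ⟨hχ, decide_eq_true h11⟩))))
  have hsub3 : ∀ χ ∈ K.A ∪ K.B, degOf χ % 11 = 0 → degOf χ % q = 0 → χ ∈ U := fun χ hχ h11 hq' =>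
    mem_disjUnion.mpr (Or.inr (mem_filter.mpr ⟨hχ, (Bool.and_eq_true _ _).mpr
      ⟨decide_eq_true h11, decide_eq_true (by rw [S.p_eq]; exact hq')⟩⟩))
  have hone : Chars.trivialIrr G ∉ U := by
    rw [hU, mem_disjUnion, mem_disjUnion, not_or, not_or]
    exact ⟨⟨b.K.triv_notMem, fun hc => S.K.triv_notMem (mem_filter.mp hc).1⟩,
      fun hc => K.triv_notMem (mem_filter.mp hc).1⟩
  have hrest : ∀ χ, χ ≠ Chars.trivialIrr G → χ ∉ U → 11 * q ∣ degOf χ := by
    intro χ hne hχ
    have h11 : degOf χ % 11 = 0 := by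
      by_contra hc
      exact hχ (hsub1 (b.mem_eleven hne hc))
    refine Nat.Coprime.mul_dvd_of_dvd_of_dvd
      ((Nat.coprime_primes (by norm_num) (Fact.out : q.Prime)).mpr (Ne.symm hq))
      (Nat.dvd_of_mod_eq_zero h11) (S.K.dvd_of_notMem S.V_bot hne fun hc => hχ (hsub2 χ hc h11))
  refine ⟨U, hone, hcoe, hsub1, hsub2, hsub3, hrest, fun χ hχ hK => ?_, ?_⟩
  · by_contra hc
    push Not at hc
    exact hχ (hsub3 χ hK hc.2 hc.1)
  -- the inequality
  set R := univ \ insert (Chars.trivialIrr G) U with hR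
  have hsplit : ∀ f : IrrCharacter G → ℤ,
      ∑ χ, f χ = f (Chars.trivialIrr G) + ∑ χ ∈ U, f χ + ∑ χ ∈ R, f χ := fun f => by
    rw [← sum_sdiff (subset_univ (insert (Chars.trivialIrr G) U)), sum_insert hone, hR, add_comm]
  have hUsum : ∀ f : Check.Pr → ℤ, (l.map f).sum = ∑ χ ∈ U, f (pr t χ) := fun f => by
    rw [← Multiset.sum_coe, ← Multiset.map_coe, hcoe, Multiset.map_map, sum_eq_multiset_sum]
    rfl
  have h1 : (443519 : ℤ) - (l.map fun x => (x.1 : ℤ) * (x.1 : ℤ)).sum =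
      ∑ χ ∈ R, (degOf χ : ℤ) * degOf χ := by
    rw [hUsum]
    have := hsplit fun χ => (degOf χ : ℤ) * degOf χ
    have hs : ∑ χ : IrrCharacter G, (degOf χ : ℤ) * degOf χ = 443520 := by
      exact_mod_cast sum_degOf_sq h
    rw [hs, degOf_trivial] at this
    simp only [pr, Nat.cast_one, mul_one] at this ⊢
    linarith
  have h2 : (cord t : ℤ) - 1 - Check.sqs l = ∑ χ ∈ R, iv χ t * iv χ t := by
    rw [Check.sqs, hUsum]
    have := hsplit fun χ => iv χ t * iv χ t
    rw [sum_iv_sq ht, iv_trivial ht] at this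
    simp only [pr, mul_one] at this ⊢
    linarith
  have h3 : 1 + (l.map fun x => (x.1 : ℤ) * x.2).sum = -∑ χ ∈ R, (degOf χ : ℤ) * iv χ t := by
    rw [hUsum]
    have := hsplit fun χ => (degOf χ : ℤ) * iv χ t
    rw [sum_deg_iv ht, iv_trivial ht, degOf_trivial] at this
    simp only [pr, Nat.cast_one, mul_one] at this ⊢
    linarith
  simp only [Check.restOK, Bool.and_eq_true, decide_eq_true_eq, h1, h2, h3, S.p_eq]
  refine ⟨⟨⟨sum_nonneg fun χ _ => by positivity, sum_nonneg fun χ _ => mul_self_nonneg _⟩, ?_⟩, ?_⟩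
  · refine Int.emod_eq_zero_of_dvd (dvd_sum fun χ hχ => ?_)
    simp only [hR, mem_sdiff, mem_insert, not_or] at hχ
    have hd : ((11 * q : ℕ) : ℤ) ∣ (degOf χ : ℤ) :=
      Int.natCast_dvd_natCast.mpr (hrest χ hχ.2.1 hχ.2.2)
    push_cast at hd ⊢
    exact mul_dvd_mul hd hd
  · have hcs := sum_mul_sq_le_sq_mul_sq R (fun χ => (degOf χ : ℤ)) (fun χ => iv χ t)
    simp only [sq] at hcs
    rw [neg_mul_neg]
    exact hcs

/-- A self-centralizing element for one prime excludes the option for the other. -/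
theorem mixed_false (h : Nat.card G = 443520) {b : Base G} {o o' : Check.Opt}
    {ps ps' : List Check.Pat} (S : SelfData (p := q) b o ps) (hq : q ≠ 11)
    (O : OptData (p := p) b o' ps')
    (hbad : Check.badTwo o.p (cord O.v) (S.Λ.row O.v) = false)
    (hkill : (Check.list11.all fun T => Check.killMixed o ps o' ps' T) = true) : False := by
  classical
  rw [List.all_eq_true] at hkill
  have h1 := hkill _ b.pat_mem
  simp only [Check.killMixed, Bool.or_eq_true, List.isEmpty_iff, List.all_eq_true] at h1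
  rcases h1 with (h1 | h1) | h1
  · exact List.not_mem_nil (h1 ▸ b.mem_patsOpt O.K O.Λ O.t_eq O.pat_mem)
  · exact List.not_mem_nil (h1 ▸ S.pat_mem_self)
  have h2 := b.all11_spec h O.v_two O.cord_le (h1 _ O.cord_mem)
  rw [List.all_eq_true] at h2
  have h3 := S.all_spec h O.v_two O.cord_le (h2 _ S.pat_mem_self)
  rw [hbad, Bool.false_or, List.all_eq_true] at h3
  have h4 := O.all_spec h (h3 _ (b.mem_patsOpt O.K O.Λ O.t_eq O.pat_mem))
  obtain ⟨U, -, -, -, -, -, -, -, hrest⟩ := b.union_spec h S O.K O.Λ O.odd hq O.t_eq O.v_two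
  have hsub : Check.subList ((Check.mem o'.t (O.Λ.row O.v)).filter fun x => decide (x.1 % o.p ≠ 0))
      (Check.mem o.t (S.Λ.row O.v)) = true := by
    refine subList_of_subset (pr O.v)
      (S := (O.K.A ∪ O.K.B).filter fun χ => decide ((pr O.v χ).1 % o.p ≠ 0) = true) ?_
      (coe_filter_map (pr O.v) _ _ _ (O.Λ.coe_mem O.odd O.v_two O.t_eq))
      (S.Λ.coe_mem S.odd O.v_two S.t_eq)
    intro χ hχ
    replace hχ := And.intro (mem_filter.mp hχ).1 (of_decide_eq_true (mem_filter.mp hχ).2)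
    try simp only [pr] at hχ
    try rw [S.p_eq] at hχ
    by_contra hc
    exact hχ.2 (Nat.mod_eq_zero_of_dvd (S.K.dvd_of_notMem S.V_bot (O.K.ne_trivial hχ.1) hc))
  rw [Check.compat, hsub, hrest] at h4
  exact Bool.false_ne_true h4

end Cfsg.Agent.Lib.M22Order33
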