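import Cfsg.Agent.Lib.M22Order33.Block
import Cfsg.Agent.Lib.M22Order33.Lists

/-!
The pattern and the row of a block.
-/

set_option autoImplicit false
set_option linter.unusedSectionVars false
set_option linter.style.haveILetI false

namespace Cfsg.Agent.Lib.M22Order33

open scoped ComplexConjugate
open Cfsg Cfsg.Agent.Lib Finset
open Cfsg.Agent.Lib.BrauerReynolds Cfsg.Agent.Lib.BrauerTuan Cfsg.Agent.Lib.DefectOne
open Cfsg.Agent.Lib.SmallGroups.PrimeChar (xp)

universe u

variable {G : Type u} [Group G] [Fintype G] {p : ℕ} [hp : Fact p.Prime] {D : Setting p G}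

/-- A degree with the value at an involution. -/
noncomputable def pr (t : G) (χ : IrrCharacter G) : Check.Pr := (degOf χ, iv χ t)

theorem coe_filter_map {α β : Type*} (f : α → β) (q : β → Bool) (S : Finset α) (l : List β)
    (hl : (↑l : Multiset β) = S.val.map f) :
    (↑(l.filter q) : Multiset β) = (S.filter fun a => q (f a) = true).val.map f := by
  have h : (↑(l.filter q) : Multiset β) = Multiset.filter (fun b => q b = true) ↑l := by
    rw [Multiset.filter_coe]; simp
  rw [h, hl, Multiset.filter_map]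
  rfl

theorem subList_of_subset {α : Type*} {β : Type} [DecidableEq β] (f : α → β) {S T : Finset α} (h : S ⊆ T)
    {l₁ l₂ : List β} (h₁ : (↑l₁ : Multiset β) = S.val.map f)
    (h₂ : (↑l₂ : Multiset β) = T.val.map f) : Check.subList l₁ l₂ = true :=
  Check.subList_of_le (h₁ ▸ h₂ ▸ Multiset.map_le_map (val_le_iff.mpr h))

namespace Blk

variable (K : Blk D)

/-- All members. -/
noncomputable def X [DecidableEq (IrrCharacter G)] : Finset (IrrCharacter G) := K.A ∪ K.B

theorem ne_trivial {χ : IrrCharacter G} (h : χ ∈ K.A ∪ K.B) : χ ≠ Chars.trivialIrr G :=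
  fun h' => K.triv_notMem (h' ▸ h)

theorem one_le_t (K : Blk D) : 1 ≤ D.t := by
  rcases Nat.eq_zero_or_pos D.t with h | h
  · have h1 := D.het
    rw [h, mul_zero] at h1
    have := hp.out.two_le
    omega
  · exact h

theorem nonempty_B : K.B.Nonempty := card_pos.mp (by rw [K.cardB]; exact K.one_le_t)

theorem e_lt : D.e < p := by
  have h : D.e ≤ p - 1 := Nat.le_of_dvd (by have := hp.out.two_le; omega) (Dvd.intro _ D.het)
  have := hp.out.two_le
  omega

theorem eq_of_rel {θ θ' : IrrCharacter G} (hθ : θ ∈ K.B) (hθ' : θ' ∈ K.B) {g : G}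
    (hg : ¬ p ∣ orderOf g) : (θ : G → ℂ) g = (θ' : G → ℂ) g := by
  have h := (K.rel θ hθ g hg).trans (K.rel θ' hθ' g hg).symm
  rcases K.ε_unit with h' | h' <;> simpa [h'] using h

theorem deg_eq {θ θ' : IrrCharacter G} (hθ : θ ∈ K.B) (hθ' : θ' ∈ K.B) : degOf θ = degOf θ' := by
  have h := K.eq_of_rel hθ hθ' (g := 1) (by simpa using hp.out.ne_one)
  simpa [apply_one_eq_degOf] using h

theorem deg_rel {θ : IrrCharacter G} (hθ : θ ∈ K.B) :
    K.ε * (degOf θ : ℤ) = 1 + ∑ χ ∈ K.A, K.δ χ * (degOf χ : ℤ) := by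
  have h := K.rel θ hθ 1 (by simpa using hp.out.ne_one)
  simp only [apply_one_eq_degOf] at h
  exact_mod_cast h

theorem not_dvd_two (hodd : p ≠ 2) {t : G} (ht : orderOf t = 2) : ¬ p ∣ orderOf t := by
  rw [ht]
  exact fun h => hodd ((Nat.prime_dvd_prime_iff_eq hp.out Nat.prime_two).mp h)

theorem iv_eq (hodd : p ≠ 2) {t : G} (ht : orderOf t = 2) {θ θ' : IrrCharacter G} (hθ : θ ∈ K.B)
    (hθ' : θ' ∈ K.B) : iv θ t = iv θ' t := by
  have h := K.eq_of_rel hθ hθ' (not_dvd_two hodd ht)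
  rw [iv_spec θ ht, iv_spec θ' ht] at h
  exact_mod_cast h

theorem iv_rel (hodd : p ≠ 2) {t : G} (ht : orderOf t = 2) {θ : IrrCharacter G} (hθ : θ ∈ K.B) :
    K.ε * iv θ t = 1 + ∑ χ ∈ K.A, K.δ χ * iv χ t := by
  have h := K.rel θ hθ t (not_dvd_two hodd ht)
  rw [iv_spec θ ht, sum_congr rfl fun χ _ => by rw [iv_spec χ ht]] at h
  exact_mod_cast h

theorem emod_A {χ : IrrCharacter G} (hχ : χ ∈ K.A) :
    (K.δ χ = 1 → degOf χ % p = 1) ∧ (K.δ χ = -1 → degOf χ % p = p - 1) := by
  have h2 := hp.out.two_le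
  refine ⟨fun hd => ?_, fun hd => ?_⟩ <;> have h := (K.congrA χ hχ) <;> rw [hd] at h
  · have h1 := Int.natCast_modEq_iff.mp (show (degOf χ : ℤ) ≡ ((1 : ℕ) : ℤ) [ZMOD p] by simpa using h)
    rwa [Nat.ModEq, Nat.mod_eq_of_lt (show 1 < p by omega)] at h1
  · have h4 : (degOf χ : ℤ) ≡ ((p - 1 : ℕ) : ℤ) [ZMOD p] := by
      refine h.trans (Int.modEq_iff_dvd.mpr ⟨1, ?_⟩)
      rw [Nat.cast_sub (by omega)]
      push_cast
      ring
    have h1 := Int.natCast_modEq_iff.mp h4
    rwa [Nat.ModEq, Nat.mod_eq_of_lt (show p - 1 < p by omega)] at h1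

theorem sgn_eq (hodd : p ≠ 2) {χ : IrrCharacter G} (hχ : χ ∈ K.A) :
    Check.sgn p (degOf χ) = K.δ χ := by
  have h2 := hp.out.two_le
  unfold Check.sgn
  rcases K.δ_unit χ hχ with h | h
  · rw [if_pos ((K.emod_A hχ).1 h), h]
  · rw [if_neg (by rw [(K.emod_A hχ).2 h]; omega), h]

theorem emod_B {θ : IrrCharacter G} (hθ : θ ∈ K.B) :
    (K.ε = 1 → degOf θ % p = D.e % p) ∧ (K.ε = -1 → degOf θ % p = p - D.e % p) := by
  have h2 := D.two_le_e
  have h3 : D.e < p := e_lt
  rw [Nat.mod_eq_of_lt h3]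
  refine ⟨fun hd => ?_, fun hd => ?_⟩ <;> have h := (K.congrB θ hθ) <;> rw [hd] at h
  · rw [one_mul] at h
    have h1 := Int.natCast_modEq_iff.mp h
    rwa [Nat.ModEq, Nat.mod_eq_of_lt h3] at h1
  · have h4 : (degOf θ : ℤ) ≡ ((p - D.e : ℕ) : ℤ) [ZMOD p] := by
      refine h.trans (Int.modEq_iff_dvd.mpr ⟨1, ?_⟩)
      rw [Nat.cast_sub h3.le]
      ring
    have h1 := Int.natCast_modEq_iff.mp h4
    rwa [Nat.ModEq, Nat.mod_eq_of_lt (show p - D.e < p by omega)] at h1

theorem eps_eq (hodd : p ≠ 2) {θ : IrrCharacter G} (hθ : θ ∈ K.B) :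
    Check.eps p D.e (degOf θ) = K.ε := by
  have h2 := D.two_le_e
  have h3 : D.e < p := e_lt
  unfold Check.eps
  rcases K.ε_unit with h | h
  · rw [if_pos ((K.emod_B hθ).1 h), h]
  · rw [if_neg ?_, h]
    rw [(K.emod_B hθ).2 h, Nat.mod_eq_of_lt h3]
    intro h4
    rcases hp.out.eq_two_or_odd with h5 | h5 <;> omega

theorem not_dvd_deg {χ : IrrCharacter G} (hχ : χ ∈ K.A ∪ K.B) : ¬ p ∣ degOf χ := by
  intro hd
  have h0 : degOf χ % p = 0 := Nat.mod_eq_zero_of_dvd hd
  have h2 := hp.out.two_le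
  have h3 : D.e < p := e_lt
  have h4 := D.two_le_e
  rcases mem_union.mp hχ with h | h
  · rcases K.δ_unit χ h with h' | h'
    · rw [(K.emod_A h).1 h'] at h0; omega
    · rw [(K.emod_A h).2 h'] at h0; omega
  · rcases K.ε_unit with h' | h'
    · rw [(K.emod_B h).1 h', Nat.mod_eq_of_lt h3] at h0; omega
    · rw [(K.emod_B h).2 h', Nat.mod_eq_of_lt h3] at h0; omega

theorem dvd_of_notMem (hV : D.S.V = ⊥) {χ : IrrCharacter G} (hne : χ ≠ Chars.trivialIrr G)
    (hχ : χ ∉ K.A ∪ K.B) : p ∣ degOf χ :=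
  dvd_degOf_of_vanish D.S.order_x (K.vanish hV χ hne hχ)

/-- A listing of the non-exceptional characters realizing a pattern, with an exceptional one. -/
structure Listing where
  /-- The non-exceptional characters. -/
  L : List (IrrCharacter G)
  coe_L : (↑L : Multiset (IrrCharacter G)) = K.A.val
  /-- An exceptional character. -/
  θ : IrrCharacter G
  θ_mem : θ ∈ K.B

variable {K}

/-- The pattern of a listing. -/
noncomputable def Listing.pat (Λ : Listing K) : Check.Pat := (Λ.L.map degOf, degOf Λ.θ)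

/-- The row of a listing at an involution. -/
noncomputable def Listing.row (Λ : Listing K) (t : G) : Check.Row :=
  (Λ.L.map (pr t), pr t Λ.θ)

theorem Listing.coe_degs [DecidableEq (IrrCharacter G)] (Λ : Listing K) {k : ℕ} (hk : k = D.t) :
    (↑(Check.degsOf k Λ.pat) : Multiset ℕ) = (K.A ∪ K.B).val.map degOf := by
  rw [← disjUnion_eq_union _ _ K.disj, disjUnion_val, Multiset.map_add, ← Λ.coe_L,
    Check.degsOf, ← Multiset.coe_add, Multiset.map_coe]
  congr 1
  rw [Multiset.coe_replicate, hk, ← K.cardB]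
  refine (Multiset.eq_replicate.mpr ⟨Multiset.card_map _ _, fun b hb => ?_⟩).symm
  obtain ⟨θ, hθ, rfl⟩ := Multiset.mem_map.mp hb
  exact K.deg_eq hθ Λ.θ_mem

theorem Listing.coe_mem [DecidableEq (IrrCharacter G)] (Λ : Listing K) (hodd : p ≠ 2) {t : G}
    (ht : orderOf t = 2) {k : ℕ} (hk : k = D.t) :
    (↑(Check.mem k (Λ.row t)) : Multiset Check.Pr) = (K.A ∪ K.B).val.map (pr t) := by
  rw [← disjUnion_eq_union _ _ K.disj, disjUnion_val, Multiset.map_add, ← Λ.coe_L,
    Check.mem, ← Multiset.coe_add, Multiset.map_coe]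
  congr 1
  rw [Multiset.coe_replicate, hk, ← K.cardB]
  refine (Multiset.eq_replicate.mpr ⟨Multiset.card_map _ _, fun b hb => ?_⟩).symm
  obtain ⟨θ, hθ, rfl⟩ := Multiset.mem_map.mp hb
  simp only [pr, Listing.row, K.deg_eq hθ Λ.θ_mem, K.iv_eq hodd ht hθ Λ.θ_mem]

theorem Listing.mem_A (Λ : Listing K) {χ : IrrCharacter G} (h : χ ∈ Λ.L) : χ ∈ K.A := by
  rw [← Finset.mem_val, ← Λ.coe_L]
  exact h

theorem Listing.sum_map {M : Type*} [AddCommMonoid M] (Λ : Listing K) (f : IrrCharacter G → M) :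
    (Λ.L.map f).sum = ∑ χ ∈ K.A, f χ := by
  rw [sum_eq_multiset_sum, ← Λ.coe_L, Multiset.map_coe, Multiset.sum_coe]

variable (K)

variable [IsSimpleGroup G]

/-- The pattern of a block is among the patterns of the option. -/
theorem exists_listing (h : Nat.card G = 443520) (hodd : p ≠ 2) {M : ℕ} {bad pool : List ℕ}
    {e t : ℕ} (he : e = D.e) (ht : t = D.t)
    (hM : D.e * (1 + D.n * p) ∣ M)
    (hbad : ∀ χ ∈ K.A ∪ K.B, degOf χ ∉ bad)
    (hpool : ∀ d ∈ Check.poolA p M bad, (∃ χ ∈ K.A, degOf χ = d) → d ∈ pool) :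
    ∃ Λ : Listing K, Λ.pat ∈ Check.patsFrom p e t M bad pool := by
  classical
  subst he ht
  obtain ⟨θ, hθ⟩ := K.nonempty_B
  have h2 := hp.out.two_le
  obtain ⟨c, hc, hmem⟩ := Check.mem_patsFrom (A := K.A.val.map degOf) (b := degOf θ) (p := p)
    (e := D.e) (t := D.t) (M := M) (bad := bad) (pool := pool)
    (fun d hd => by
      obtain ⟨χ, hχ, rfl⟩ := Multiset.mem_map.mp hd
      refine hpool _ ?_ ⟨χ, hχ, rfl⟩
      have hne := K.ne_trivial (mem_union_left _ hχ)
      simp only [Check.poolA, List.mem_filter, Bool.and_eq_true, Bool.or_eq_true, decide_eq_true_eq,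
        Bool.not_eq_true', List.contains_iff_mem, ← Bool.not_eq_true]
      refine ⟨mem_allDegs h hne, ⟨Nat.mod_eq_zero_of_dvd ((K.dvd χ (mem_union_left _ hχ)).trans hM),
        ?_⟩, hbad χ (mem_union_left _ hχ)⟩
      rcases K.δ_unit χ hχ with h' | h'
      exacts [Or.inl ((K.emod_A hχ).1 h'), Or.inr ((K.emod_A hχ).2 h')])
    (by rw [Multiset.card_map]; have := K.cardA; simp only [card_val]; omega)
    (two_le_degOf h (K.ne_trivial (mem_union_right _ hθ)))
    (Nat.mod_eq_zero_of_dvd ((K.dvd θ (mem_union_right _ hθ)).trans hM))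
    (by rw [← Bool.not_eq_true, List.contains_iff_mem]; exact hbad θ (mem_union_right _ hθ))
    (by rcases K.ε_unit with h' | h'; exacts [Or.inl ((K.emod_B hθ).1 h'), Or.inr ((K.emod_B hθ).2 h')])
    (by
      rw [K.eps_eq hodd hθ, Multiset.map_map, K.deg_rel hθ, sum_eq_multiset_sum]
      congr 2
      exact Multiset.map_congr rfl fun χ hχ => by rw [Function.comp_apply, K.sgn_eq hodd hχ])
    (by
      have h1 := sum_le_sum_of_subset (f := fun ψ : IrrCharacter G => degOf ψ * degOf ψ)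
        (subset_univ (insert (Chars.trivialIrr G) (K.A ∪ K.B)))
      rw [sum_degOf_sq h, sum_insert K.triv_notMem, degOf_trivial, sum_union K.disj,
        sum_congr rfl (s₁ := K.B) fun χ hχ => by rw [K.deg_eq hχ hθ], sum_const, K.cardB,
        smul_eq_mul, sum_eq_multiset_sum] at h1
      rw [Multiset.map_map]
      simp only [Function.comp_def]
      omega)
  obtain ⟨L, hL, hLc⟩ := Check.exists_lift degOf c K.A.val hc
  exact ⟨⟨L, hL, θ, hθ⟩, by rw [Listing.pat, hLc]; exact hmem⟩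

variable {K}

/-- A row of a block passes a test on all rows. -/
theorem Listing.row_spec (h : Nat.card G = 443520) (hodd : p ≠ 2) (Λ : Listing K) {t : G}
    (ht : orderOf t = 2) {C : ℕ} (hC : C = Nat.card (Subgroup.centralizer ({t} : Set G)))
    (hC' : C ≤ 40320) {e k : ℕ} (he : e = D.e) (hk : k = D.t)
    {vals : ℕ → List ℤ} {ok : ℕ → ℤ → Bool} {f : Check.Row → Bool}
    (hvals : ∀ χ ∈ K.A, iv χ t ∈ vals (degOf χ)) (hok : ∀ θ ∈ K.B, ok (degOf θ) (iv θ t) = true)
    (hall : Check.allRows p e k C vals ok Λ.pat f = true) : f (Λ.row t) = true := by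
  classical
  subst he hk
  have hsm : ∀ χ, χ ≠ Chars.trivialIrr G → (iv χ t).natAbs * (iv χ t).natAbs < C := by
    intro χ hχ
    have h1 := okVal_iv h hχ ht
    simp only [Check.okVal, Bool.and_eq_true, Nat.blt_eq, ← hC] at h1
    exact h1.1.1.2
  have key := Check.allRows_spec (L := Λ.L.map (pr t)) (b := degOf Λ.θ) (v := iv Λ.θ t)
    (p := p) (e := D.e) (t := D.t) (C := C) (vals := vals) (ok := ok) (f := f)
    (by rw [List.map_map]; exact hall)
    (by
      intro a ha
      obtain ⟨χ, hχ, rfl⟩ := List.mem_map.mp ha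
      exact hvals χ (Λ.mem_A hχ))
    (by
      intro a ha
      obtain ⟨χ, hχ, rfl⟩ := List.mem_map.mp ha
      have h1 := hsm χ (K.ne_trivial (mem_union_left _ (Λ.mem_A hχ)))
      show (iv χ t).natAbs ≤ 1024
      by_contra hlt
      have := Nat.mul_le_mul (Nat.le_of_lt (not_le.mp hlt)) (Nat.le_of_lt (not_le.mp hlt))
      omega)
    (by
      rw [Check.lin, List.map_map, Λ.sum_map, K.eps_eq hodd Λ.θ_mem,
        sum_congr rfl fun χ hχ => show ((fun x : Check.Pr => Check.sgn p x.1 * x.2) ∘ pr t) χ =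
          K.δ χ * iv χ t by simp [pr, K.sgn_eq hodd hχ], ← K.iv_rel hodd ht Λ.θ_mem, ← mul_assoc]
      rcases K.ε_unit with h' | h' <;> simp [h'])
    (hok _ Λ.θ_mem)
    (by
      have h1 := sum_le_sum_of_subset_of_nonneg
        (subset_univ (insert (Chars.trivialIrr G) (K.A ∪ K.B)))
        (f := fun ψ : IrrCharacter G => iv ψ t * iv ψ t) fun ψ _ _ => mul_self_nonneg _
      rw [sum_iv_sq ht, sum_insert K.triv_notMem, iv_trivial ht, sum_union K.disj,
        sum_congr rfl (s₁ := K.B) fun χ hχ => by rw [K.iv_eq hodd ht hχ Λ.θ_mem], sum_const,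
        K.cardB, nsmul_eq_mul, ← hC] at h1
      simp only [← Int.natAbs_mul_self] at h1
      rw [List.map_map, Λ.sum_map]
      simp only [Function.comp_def, pr, Check.sq]
      zify
      push_cast at h1
      linarith)
  exact key

end Blk

end Cfsg.Agent.Lib.M22Order33
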