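import Cfsg.Agent.Lib.M22Order33.Involutions
import Cfsg.Agent.Lib.Chars.DefectZero
import Cfsg.Agent.Lib.Chars.Ops

/-!
The centralizer of an element of order three has order 9 or 36.
-/

set_option autoImplicit false
set_option linter.unusedSectionVars false
set_option linter.style.haveILetI false
set_option maxRecDepth 4000

namespace Cfsg.Agent.Lib.M22Order33

open scoped ComplexConjugate
open Cfsg Cfsg.Agent.Lib Finset
open Cfsg.Agent.Lib.BrauerReynolds Cfsg.Agent.Lib.BrauerTuan Cfsg.Agent.Lib.DefectOne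

universe u

theorem sum_zmod_three {M : Type*} [AddCommMonoid M] (f : ZMod 3 → M) :
    ∑ j, f j = f 0 + f 1 + f 2 :=
  Fin.sum_univ_three f

variable {G : Type u} [Group G] [Fintype G] [IsSimpleGroup G]
variable [Fact (Nat.Prime 11)] [Fact (Nat.Prime 7)] [Fact (Nat.Prime 5)]

namespace Blocks3

variable (B : Blocks3 G)
include B

theorem exists_involution' (h : Nat.card G = 443520) : ∃ t : G, orderOf t = 2 := by
  haveI : Fact (Nat.Prime 2) := ⟨Nat.prime_two⟩
  exact exists_prime_orderOf_dvd_card' 2 (by rw [h]; norm_num)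

theorem degs (h : Nat.card G = 443520) :
    (univ : Finset (IrrCharacter G)).val.map degOf = ↑degrees := by
  obtain ⟨t, ht⟩ := B.exists_involution' h
  exact (B.row h ht).2.1

/-- A sum over the characters of a function of the degree. -/
theorem sum_deg (h : Nat.card G = 443520) {M : Type*} [AddCommMonoid M] (P : ℕ → Bool)
    (f : ℕ → M) :
    ∑ χ ∈ (univ : Finset (IrrCharacter G)).filter (fun χ => P (degOf χ) = true), f (degOf χ) =
      ((degrees.filter P).map f).sum := by
  rw [sum_eq_multiset_sum, ← Multiset.sum_coe, ← Multiset.map_coe,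
    coe_filter_map degOf P univ degrees (B.degs h).symm, Multiset.map_map]
  rfl

theorem card_deg (h : Nat.card G = 443520) (d : ℕ) :
    ((univ : Finset (IrrCharacter G)).filter fun χ => degOf χ = d).card = degrees.count d := by
  rw [← Multiset.coe_count, ← B.degs h, Multiset.count_map, Finset.card_def, filter_val]
  congr 1
  exact Multiset.filter_congr fun x _ => ⟨fun h' => h'.symm, fun h' => h'.symm⟩

theorem mem_degrees (h : Nat.card G = 443520) (χ : IrrCharacter G) : degOf χ ∈ degrees := by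
  rw [← Multiset.mem_coe, ← B.degs h]
  exact Multiset.mem_map_of_mem _ (mem_univ χ)

theorem eq_trivial_of_deg_one (h : Nat.card G = 443520) {χ : IrrCharacter G} (hd : degOf χ = 1) :
    χ = Chars.trivialIrr G := by
  by_contra hne
  have := two_le_degOf h hne
  omega

theorem deg_B11 (h : Nat.card G = 443520) {θ : IrrCharacter G} (hθ : θ ∈ B.b.K.B) :
    degOf θ = 280 := by
  have h1 := B.b.K.emod_B hθ
  rw [B.b.e_eq] at h1
  have h2 := B.mem_degrees h θ
  have h3 : degOf θ % 11 = 5 ∨ degOf θ % 11 = 6 := by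
    rcases B.b.K.ε_unit with h' | h'
    · exact Or.inl (h1.1 h')
    · exact Or.inr (h1.2 h')
  have key : ∀ d ∈ degrees, d % 11 = 5 ∨ d % 11 = 6 → d = 280 := by decide
  exact key _ h2 h3

theorem mem_A11 (h : Nat.card G = 443520) (χ : IrrCharacter G) :
    χ ∈ B.b.K.A ↔ (decide (degOf χ ≠ 1) &&
      (decide (degOf χ % 11 = 1) || decide (degOf χ % 11 = 10))) = true := by
  simp only [Bool.and_eq_true, Bool.or_eq_true, decide_eq_true_eq]
  constructor
  · intro hχ
    refine ⟨fun h1 => B.b.K.triv_notMem (B.eq_trivial_of_deg_one h h1 ▸ mem_union_left _ hχ), ?_⟩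
    rcases B.b.K.δ_unit χ hχ with h' | h'
    · exact Or.inl ((B.b.K.emod_A hχ).1 h')
    · exact Or.inr (by simpa using (B.b.K.emod_A hχ).2 h')
  · rintro ⟨h1, h2⟩
    have hne : χ ≠ Chars.trivialIrr G := fun hc => h1 (by rw [hc, degOf_trivial])
    rcases mem_union.mp (B.b.mem_eleven hne (by omega)) with h' | h'
    · exact h'
    · have := B.deg_B11 h h'
      omega

theorem deg_B7 (h : Nat.card G = 443520) {θ : IrrCharacter G} (hθ : θ ∈ B.S7.K.B) :
    degOf θ = 45 := by
  have he : B.S7.D.e = 3 := B.S7.e_eq.symm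
  have h1 := B.S7.K.emod_B hθ
  rw [he] at h1
  have h2 := B.mem_degrees h θ
  have h3 : degOf θ % 7 = 3 ∨ degOf θ % 7 = 4 := by
    rcases B.S7.K.ε_unit with h' | h'
    · exact Or.inl (h1.1 h')
    · exact Or.inr (h1.2 h')
  have key : ∀ d ∈ degrees, d % 7 = 3 ∨ d % 7 = 4 → d = 45 := by decide
  exact key _ h2 h3

theorem mem_A7 (h : Nat.card G = 443520) (χ : IrrCharacter G) :
    χ ∈ B.S7.K.A ↔ (decide (degOf χ ≠ 1) &&
      (decide (degOf χ % 7 = 1) || decide (degOf χ % 7 = 6))) = true := by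
  simp only [Bool.and_eq_true, Bool.or_eq_true, decide_eq_true_eq]
  constructor
  · intro hχ
    refine ⟨fun h1 => B.S7.K.triv_notMem (B.eq_trivial_of_deg_one h h1 ▸ mem_union_left _ hχ), ?_⟩
    rcases B.S7.K.δ_unit χ hχ with h' | h'
    · exact Or.inl ((B.S7.K.emod_A hχ).1 h')
    · exact Or.inr (by simpa using (B.S7.K.emod_A hχ).2 h')
  · rintro ⟨h1, h2⟩
    have hne : χ ≠ Chars.trivialIrr G := fun hc => h1 (by rw [hc, degOf_trivial])
    have hm : χ ∈ B.S7.K.A ∪ B.S7.K.B := by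
      by_contra hc
      have := B.S7.K.dvd_of_notMem B.S7.V_bot hne hc
      omega
    rcases mem_union.mp hm with h' | h'
    · exact h'
    · have := B.deg_B7 h h'
      omega

theorem mem_five (h : Nat.card G = 443520) (χ : IrrCharacter G) :
    χ ∈ B.S5.K.A ∪ B.S5.K.B ↔ (decide (degOf χ ≠ 1) && decide (degOf χ % 5 ≠ 0)) = true := by
  simp only [Bool.and_eq_true, decide_eq_true_eq]
  constructor
  · intro hχ
    refine ⟨fun h1 => B.S5.K.triv_notMem (B.eq_trivial_of_deg_one h h1 ▸ hχ), fun h0 => ?_⟩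
    exact B.S5.K.not_dvd_deg hχ (Nat.dvd_of_mod_eq_zero h0)
  · rintro ⟨h1, h2⟩
    have hne : χ ≠ Chars.trivialIrr G := fun hc => h1 (by rw [hc, degOf_trivial])
    by_contra hc
    exact h2 (Nat.mod_eq_zero_of_dvd (B.S5.K.dvd_of_notMem B.S5.V_bot hne hc))

theorem vanish45 (h : Nat.card G = 443520) {χ : IrrCharacter G} (hd : 9 ∣ degOf χ) {g : G}
    (hg : 3 ∣ orderOf g) : (χ : G → ℂ) g = 0 := by
  obtain ⟨n, ρ, hρ, hρχ⟩ := Chars.irr_exists_rep χ
  haveI := hρ
  rw [← hρχ]
  refine Chars.char_eq_zero_of_defect_zero ρ Nat.prime_three (n := 2) (by rw [h]; norm_num)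
    (by rw [h]; norm_num) ?_ g hg
  have h1 : ρ.character 1 = (χ : G → ℂ) 1 := by rw [hρχ]
  rw [Representation.char_one, apply_one_eq_degOf] at h1
  rw [show Module.finrank ℂ (Fin n → ℂ) = degOf χ by exact_mod_cast h1]
  exact hd

/-- Characters of equal degree agree at elements of order three. -/
theorem value_eq (h : Nat.card G = 443520) {g : G} (hg : orderOf g = 3) {χ ψ : IrrCharacter G}
    (hd : degOf χ = degOf ψ) : (χ : G → ℂ) g = (ψ : G → ℂ) g := by
  classical
  by_cases h45 : degOf χ = 45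
  · rw [B.vanish45 h (by rw [h45]; norm_num) (dvd_of_eq hg.symm),
      B.vanish45 h (by rw [← hd, h45]; norm_num) (dvd_of_eq hg.symm)]
  by_cases h280 : degOf χ = 280
  · have hmem : ∀ φ : IrrCharacter G, degOf φ = 280 → φ ∈ B.b.K.B := fun φ hφ => by
      have hne : φ ≠ Chars.trivialIrr G := fun hc => by rw [hc, degOf_trivial] at hφ; omega
      rcases mem_union.mp (B.b.mem_eleven hne (by omega)) with h' | h'
      · have := (B.mem_A11 h φ).mp h'
        simp [hφ] at this
      · exact h'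
    exact B.b.K.eq_of_rel (hmem χ h280) (hmem ψ (hd ▸ h280)) (by rw [hg]; norm_num)
  have hc := B.card_deg h (degOf χ)
  have key : ∀ d ∈ degrees, d ≠ 45 → d ≠ 280 → degrees.count d = 1 := by decide
  rw [key _ (B.mem_degrees h χ) h45 h280, card_eq_one] at hc
  obtain ⟨a, ha⟩ := hc
  have h1 : χ ∈ ({a} : Finset (IrrCharacter G)) := ha ▸ mem_filter.mpr ⟨mem_univ _, rfl⟩
  have h2 : ψ ∈ ({a} : Finset (IrrCharacter G)) := ha ▸ mem_filter.mpr ⟨mem_univ _, hd.symm⟩
  rw [mem_singleton] at h1 h2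
  rw [h1, h2]

/-- The values at an element of order three are integers congruent to the degree. -/
theorem exists_int (h : Nat.card G = 443520) {g : G} (hg : orderOf g = 3) (χ : IrrCharacter G) :
    ∃ a : ℤ, (χ : G → ℂ) g = a ∧ (3 : ℤ) ∣ a - degOf χ := by
  haveI : Fact (Nat.Prime 3) := ⟨Nat.prime_three⟩
  have hdeg : degOf (Chars.irrConj χ) = degOf χ := by
    have h1 := Chars.irrConj_apply χ 1
    rw [apply_one_eq_degOf, apply_one_eq_degOf, Complex.conj_natCast] at h1
    exact_mod_cast h1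
  have hreal : conj ((χ : G → ℂ) g) = (χ : G → ℂ) g := by
    rw [← Chars.irrConj_apply]
    exact B.value_eq h hg hdeg
  obtain ⟨n, hn⟩ := SmallGroups.PrimeChar.exists_mult_nat hg χ (0 : ZMod 3)
  have hg2 : g ^ 2 = g⁻¹ := eq_inv_of_mul_eq_one_left (by rw [← pow_succ, show 2 + 1 = orderOf g by rw [hg], pow_orderOf_eq_one])
  have hinv : (χ : G → ℂ) g⁻¹ = (χ : G → ℂ) g := by
    rw [Chars.irr_inv, hreal]
  have hmult : SmallGroups.PrimeChar.mult 3 g χ 0 =
      3⁻¹ * ((degOf χ : ℂ) + (χ : G → ℂ) g + (χ : G → ℂ) g) := by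
    rw [SmallGroups.PrimeChar.mult, sum_zmod_three]
    simp only [zero_mul, neg_zero, AddChar.map_zero_eq_one, mul_one, SmallGroups.PrimeChar.xp,
      show (0 : ZMod 3).val = 0 from rfl, show (1 : ZMod 3).val = 1 from rfl,
      show (2 : ZMod 3).val = 2 from rfl, pow_zero, pow_one, hg2, hinv, apply_one_eq_degOf,
      Nat.cast_ofNat]
  rw [hmult] at hn
  have h2 : 2 * (χ : G → ℂ) g = 3 * (n : ℂ) - degOf χ := by linear_combination 3 * hn
  obtain ⟨a, ha⟩ := Chars.exists_int_eq_of_isIntegral (Chars.irr_isIntegral χ g)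
    ((3 * (n : ℚ) - degOf χ) / 2) (by push_cast; linear_combination h2 / 2)
  refine ⟨a, ha, ?_⟩
  rw [ha] at h2
  have h3 : 2 * a = 3 * (n : ℤ) - degOf χ := by exact_mod_cast h2
  omega

theorem cord_three (h : Nat.card G = 443520) {g : G} (hg : orderOf g = 3) :
    cord g = 9 ∨ cord g = 36 := by
  classical
  choose a ha hcong using B.exists_int h hg
  let V : ℕ → ℤ := fun d => if hd : ∃ χ : IrrCharacter G, degOf χ = d then a hd.choose else 0
  have hV : ∀ χ, a χ = V (degOf χ) := by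
    intro χ
    have hd : ∃ ψ : IrrCharacter G, degOf ψ = degOf χ := ⟨χ, rfl⟩
    simp only [V, dif_pos hd]
    have h1 := B.value_eq h hg hd.choose_spec
    rw [ha, ha] at h1
    exact_mod_cast h1.symm
  have hVd : ∀ d ∈ degrees, (3 : ℤ) ∣ V d - d ∧ (9 ∣ d → V d = 0) := by
    intro d hd
    rw [← Multiset.mem_coe, ← B.degs h, Multiset.mem_map] at hd
    obtain ⟨χ, -, rfl⟩ := hd
    rw [← hV]
    refine ⟨hcong χ, fun h9 => ?_⟩
    have h1 := B.vanish45 h h9 (dvd_of_eq hg.symm)
    rw [ha] at h1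
    exact_mod_cast h1
  have h45 := (hVd 45 (by decide)).2 (by norm_num)
  have h99 := (hVd 99 (by decide)).2 (by norm_num)
  have c21 := (hVd 21 (by decide)).1
  have c154 := (hVd 154 (by decide)).1
  have htriv : V 1 = 1 := by
    rw [← degOf_trivial (G := G), ← hV]
    have h1 := ha (Chars.trivialIrr G)
    rw [Chars.trivialIrr_apply] at h1
    exact_mod_cast h1.symm
  -- the blocks
  have r11 : ∀ θ ∈ B.b.K.B, (B.b.K.ε : ℤ) * a θ = 1 + ∑ χ ∈ B.b.K.A, B.b.K.δ χ * a χ := by
    intro θ hθ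
    have h1 := B.b.K.rel θ hθ g (by rw [hg]; norm_num)
    simp only [ha] at h1
    exact_mod_cast h1
  obtain ⟨θ, hθ⟩ := B.b.K.nonempty_B
  have e11 := r11 θ hθ
  rw [hV θ, B.deg_B11 h hθ, show B.b.K.ε = 1 by
    rw [← B.b.K.eps_eq (by norm_num) hθ, B.deg_B11 h hθ, B.b.e_eq]; rfl] at e11
  have hA11 : B.b.K.A = (univ : Finset (IrrCharacter G)).filter fun χ =>
      (fun d => decide (d ≠ 1) && (decide (d % 11 = 1) || decide (d % 11 = 10))) (degOf χ) = true := by
    ext χ
    simp only [mem_filter, mem_univ, true_and, B.mem_A11 h χ]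
  rw [sum_congr rfl fun χ hχ => show B.b.K.δ χ * a χ = Check.sgn 11 (degOf χ) * V (degOf χ) by
    rw [B.b.K.sgn_eq (by norm_num) hχ, hV], hA11,
    B.sum_deg h (fun d => decide (d ≠ 1) && (decide (d % 11 = 1) || decide (d % 11 = 10)))
      (fun d => Check.sgn 11 d * V d)] at e11
  obtain ⟨θ7, hθ7⟩ := B.S7.K.nonempty_B
  have e7 : (B.S7.K.ε : ℤ) * a θ7 = 1 + ∑ χ ∈ B.S7.K.A, B.S7.K.δ χ * a χ := by
    have h1 := B.S7.K.rel θ7 hθ7 g (by rw [hg]; norm_num)
    simp only [ha] at h1
    exact_mod_cast h1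
  rw [hV θ7, B.deg_B7 h hθ7, h45, mul_zero] at e7
  have hA7 : B.S7.K.A = (univ : Finset (IrrCharacter G)).filter fun χ =>
      (fun d => decide (d ≠ 1) && (decide (d % 7 = 1) || decide (d % 7 = 6))) (degOf χ) = true := by
    ext χ
    simp only [mem_filter, mem_univ, true_and, B.mem_A7 h χ]
  rw [sum_congr rfl fun χ hχ => show B.S7.K.δ χ * a χ = Check.sgn 7 (degOf χ) * V (degOf χ) by
    rw [B.S7.K.sgn_eq (by norm_num) hχ, hV], hA7,
    B.sum_deg h (fun d => decide (d ≠ 1) && (decide (d % 7 = 1) || decide (d % 7 = 6)))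
      (fun d => Check.sgn 7 d * V d)] at e7
  obtain ⟨θ5, hθ5⟩ := B.S5.K.nonempty_B
  have he5 : B.S5.D.e = 4 := B.S5.e_eq.symm
  have ht5 : B.S5.D.t = 1 := B.S5.t_eq.symm
  have e5 : ∑ χ ∈ B.S5.K.A ∪ B.S5.K.B, Check.sgn 5 (degOf χ) * V (degOf χ) = -1 := by
    have h1 := B.S5.K.rel θ5 hθ5 g (by rw [hg]; norm_num)
    simp only [ha] at h1
    have h2 : (B.S5.K.ε : ℤ) * a θ5 = 1 + ∑ χ ∈ B.S5.K.A, B.S5.K.δ χ * a χ := by exact_mod_cast h1
    obtain ⟨θ', hB⟩ := card_eq_one.mp (B.S5.K.cardB.trans ht5)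
    have hθ' : θ' = θ5 := by rw [hB, mem_singleton] at hθ5; exact hθ5.symm
    rw [sum_union B.S5.K.disj, hB, sum_singleton, hθ', ← hV θ5,
      sum_congr rfl (s₁ := B.S5.K.A) fun χ hχ => show Check.sgn 5 (degOf χ) * V (degOf χ) =
        B.S5.K.δ χ * a χ by rw [B.S5.K.sgn_eq (by norm_num) hχ, hV]]
    have hs : Check.sgn 5 (degOf θ5) = -B.S5.K.ε := by
      have hm := B.S5.K.emod_B hθ5
      rw [he5] at hm
      rcases B.S5.K.ε_unit with h' | h'
      · rw [Check.sgn, if_neg (by rw [hm.1 h']; norm_num), h']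
      · rw [Check.sgn, if_pos (by rw [hm.2 h']), h']; norm_num
    rw [hs]
    linarith
  have hX5 : B.S5.K.A ∪ B.S5.K.B = (univ : Finset (IrrCharacter G)).filter fun χ =>
      (fun d => decide (d ≠ 1) && decide (d % 5 ≠ 0)) (degOf χ) = true := by
    ext χ
    simp only [mem_filter, mem_univ, true_and, B.mem_five h χ]
  rw [hX5, B.sum_deg h (fun d => decide (d ≠ 1) && decide (d % 5 ≠ 0))
    (fun d => Check.sgn 5 d * V d)] at e5
  -- orthogonality
  have hall : ∀ f : ℕ → ℤ, ∑ χ : IrrCharacter G, f (degOf χ) = (degrees.map f).sum := fun f => by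
    have h1 := B.sum_deg h (fun _ => true) f
    simpa using h1
  have e1 : ∑ χ : IrrCharacter G, (degOf χ : ℤ) * V (degOf χ) = 0 := by
    have h1 := Chars.sum_degree_mul_irr (G := G) g
    rw [if_neg (fun h' => by rw [h', orderOf_one] at hg; omega)] at h1
    apply Int.cast_injective (α := ℂ)
    push_cast
    refine Eq.trans (sum_congr rfl fun χ _ => ?_) h1
    rw [← hV, apply_one_eq_degOf, ha]
  obtain ⟨t, ht⟩ := B.exists_involution' h
  have e2 : ∑ χ : IrrCharacter G, V (degOf χ) * hval (degOf χ) = 0 := by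
    have hne : ¬ IsConj g t := fun hc => by
      obtain ⟨c, hc'⟩ := isConj_iff.mp hc
      have h1 : orderOf (MulAut.conj c g) = orderOf g := MulEquiv.orderOf_eq _ _
      rw [MulAut.conj_apply, hc', hg, ht] at h1
      omega
    have h1 := (column_sum g t).trans (card_transporter g t)
    rw [Chars.classIndicator, if_neg hne, mul_zero] at h1
    apply Int.cast_injective (α := ℂ)
    push_cast
    refine Eq.trans (sum_congr rfl fun χ _ => ?_) h1
    rw [← hV, ← (B.row h ht).2.2 χ, ha, iv_spec χ ht, map_intCast]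
  have e3 : ∑ χ : IrrCharacter G, V (degOf χ) * V (degOf χ) = (cord g : ℤ) := by
    have h1 := (column_sum g g).trans (card_transporter g g)
    rw [Chars.classIndicator, if_pos (IsConj.refl g), mul_one] at h1
    apply Int.cast_injective (α := ℂ)
    push_cast
    refine Eq.trans (sum_congr rfl fun χ _ => ?_) h1
    rw [← hV, ha, map_intCast]
  rw [hall fun d => (d : ℤ) * V d] at e1
  rw [hall fun d => V d * hval d] at e2
  rw [hall fun d => V d * V d] at e3
  simp [degrees, Check.sgn, hval, h45, h99, htriv] at e11 e7 e5 e1 e2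
  simp only [degrees, List.map_cons, List.map_nil, List.sum_cons, List.sum_nil, h45, h99, htriv] at e3
  -- solve
  have hdvd : cord g ∣ 1152 := B.cord_dvd h (fun h' => by rw [h', orderOf_one] at hg; omega) (by omega)
  obtain ⟨i, hi⟩ : (3 : ℤ) ∣ V 21 := by omega
  obtain ⟨j, hj⟩ : (3 : ℤ) ∣ V 154 - 1 := by omega
  have hN : (cord g : ℤ) = 9 * (3 * i * i + 14 * j * j + 6 * j + 1) := by
    have e210 : V 210 = V 21 + V 154 - 1 := by linarith
    have e231 : V 231 = V 154 - V 21 - 1 := by linarith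
    have e280 : V 280 = V 154 := by linarith
    have e385 : V 385 = 1 - 3 * V 154 := by linarith
    have e55 : V 55 = 1 := by linarith
    rw [← e3, e210, e231, e280, e385, e55, show V 154 = 3 * j + 1 by linarith, hi]
    ring
  have hle : (cord g : ℤ) ≤ 1152 := by exact_mod_cast Nat.le_of_dvd (by norm_num) hdvd
  have hi1 : i ∈ Icc (-7 : ℤ) 7 := by
    rw [mem_Icc]
    constructor <;> nlinarith [sq_nonneg (14 * j + 3), sq_nonneg (i - 7), sq_nonneg (i + 7)]
  have hj1 : j ∈ Icc (-4 : ℤ) 4 := by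
    rw [mem_Icc]
    constructor <;> nlinarith [sq_nonneg i, sq_nonneg (j - 4), sq_nonneg (j + 4)]
  have key : ∀ i ∈ Icc (-7 : ℤ) 7, ∀ j ∈ Icc (-4 : ℤ) 4,
      (1152 : ℤ) % (9 * (3 * i * i + 14 * j * j + 6 * j + 1)) = 0 →
        9 * (3 * i * i + 14 * j * j + 6 * j + 1) = 9 ∨
          9 * (3 * i * i + 14 * j * j + 6 * j + 1) = 36 := by decide +kernel
  have h1 := key i hi1 j hj1 (by
    rw [← hN]
    exact Int.emod_eq_zero_of_dvd (by exact_mod_cast hdvd))
  omega

end Blocks3

end Cfsg.Agent.Lib.M22Order33
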